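import Groth.Agent.AdicC27.Approx
import Groth.Agent.CAlg6.PSEndo
import Mathlib.RingTheory.MvPowerSeries.Derivative
import Mathlib.RingTheory.MvPowerSeries.Equiv
import Mathlib.RingTheory.AdicCompletion.RingHom
import Mathlib.RingTheory.Ideal.Quotient.Noetherian

/-!
Evaluation of power series in algebras that are finite over a complete Noetherian local ring.
-/

set_option autoImplicit false

universe u v w

open MvPowerSeries IsLocalRing

noncomputable section

namespace Groth.Agent.Font54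

variable (O : Type u) [CommRing O] [IsLocalRing O]
variable (R : Type v) [CommRing R] [Algebra O R]

/-- The extension of the maximal ideal. -/
abbrev mS : Ideal R := (maximalIdeal O).map (algebraMap O R)

/-- The topologically nilpotent elements. -/
abbrev nS : Ideal R := (mS O R).radical

theorem isNoetherian_of_finite [IsNoetherianRing O] [Module.Finite O R] : IsNoetherianRing R :=
  isNoetherianRing_iff.2 (isNoetherian_of_tower O (isNoetherian_of_isNoetherianRing_of_finite O R))

theorem complete [IsNoetherianRing O] [IsAdicComplete (maximalIdeal O) O] [Module.Finite O R] :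
    IsAdicComplete (mS O R) R :=
  (IsAdicComplete.map_algebraMap_iff _ _).2 (AdicC27.isAdicComplete_of_finite R)

theorem exists_nS_pow_le [IsNoetherianRing O] [Module.Finite O R] : ∃ e, nS O R ^ e ≤ mS O R :=
  haveI := isNoetherian_of_finite O R
  Ideal.exists_radical_pow_le_of_fg _ (IsNoetherian.noetherian _)

variable {O R}

theorem mem_of_forall_mem_sup [IsNoetherianRing O] [IsAdicComplete (maximalIdeal O) O] [Module.Finite O R]
    (L : Ideal R) {x : R} (h : ∀ M, x ∈ L ⊔ mS O R ^ M) : x ∈ L := by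
  have hH : IsHausdorff (maximalIdeal O) (R ⧸ L) :=
    (AdicC27.isAdicComplete_of_finite (I := maximalIdeal O) (R ⧸ L)).toIsHausdorff
  rw [← Ideal.Quotient.eq_zero_iff_mem]
  refine hH.haus _ fun M => ?_
  rw [SModEq.zero]
  obtain ⟨l, hl, y, hy, rfl⟩ := Submodule.mem_sup.1 (h M)
  rw [map_add, Ideal.Quotient.eq_zero_iff_mem.2 hl, zero_add, Ideal.smul_top_eq_map,
    Submodule.restrictScalars_mem, IsScalarTower.algebraMap_eq O R (R ⧸ L), ← Ideal.map_map, Ideal.map_pow]
  exact Ideal.mem_map_of_mem _ hy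

theorem eq_zero_of_forall_mem [IsNoetherianRing O] [IsAdicComplete (maximalIdeal O) O] [Module.Finite O R]
    {x : R} (h : ∀ M, x ∈ mS O R ^ M) : x = 0 :=
  Ideal.mem_bot.1 (mem_of_forall_mem_sup ⊥ fun M => by rw [bot_sup_eq]; exact h M)

variable {n : ℕ}

variable (O n) in
/-- The ideal of the variables. -/
abbrev xIdeal : Ideal (MvPowerSeries (Fin n) O) :=
  Ideal.span (Set.range (MvPowerSeries.X : Fin n → MvPowerSeries (Fin n) O))

theorem sub_truncTotal_mem (f : MvPowerSeries (Fin n) O) (N : ℕ) :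
    f - ((truncTotal N f : MvPolynomial (Fin n) O) : MvPowerSeries (Fin n) O) ∈ xIdeal O n ^ N := by
  suffices h : ∀ (N : ℕ) (g : MvPowerSeries (Fin n) O), CAlg6.OrdGE N g → g ∈ xIdeal O n ^ N from
    h N _ fun d hd => by rw [map_sub, MvPolynomial.coeff_coe, coeff_truncTotal _ hd, sub_self]
  intro N
  induction N with
  | zero => intro g _; simp
  | succ N ih =>
    intro g hg
    obtain ⟨c, hc, rfl⟩ := CAlg6.exists_decomp hg
    refine Submodule.sum_mem _ fun i _ => ?_
    rw [pow_succ']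
    exact Ideal.mul_mem_mul (Ideal.subset_span ⟨i, rfl⟩) (ih _ (hc i))

theorem map_xIdeal_pow (φ : MvPowerSeries (Fin n) O →ₐ[O] R) {J : Ideal R} (h : ∀ i, φ (X i) ∈ J) {N : ℕ}
    {g : MvPowerSeries (Fin n) O} (hg : g ∈ xIdeal O n ^ N) : φ g ∈ J ^ N := by
  have h2 := Ideal.mem_map_of_mem φ hg
  rw [Ideal.map_pow] at h2
  refine Ideal.pow_right_mono ?_ N h2
  rw [Ideal.map_span, Ideal.span_le]
  rintro _ ⟨_, ⟨i, rfl⟩, rfl⟩
  exact h i

theorem hom_poly (φ : MvPowerSeries (Fin n) O →ₐ[O] R) (p : MvPolynomial (Fin n) O) :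
    φ (p : MvPowerSeries (Fin n) O) = MvPolynomial.aeval (fun i => φ (X i)) p := by
  have h : φ.comp (MvPolynomial.coeToMvPowerSeries.algHom O) = MvPolynomial.aeval (fun i => φ (X i)) :=
    MvPolynomial.algHom_ext fun i => by simp
  simpa using AlgHom.congr_fun h p

/-- Homomorphisms are determined by the values of the variables. -/
theorem hom_ext [IsNoetherianRing O] [IsAdicComplete (maximalIdeal O) O] [Module.Finite O R]
    {φ φ' : MvPowerSeries (Fin n) O →ₐ[O] R} (h : ∀ i, φ (X i) ∈ nS O R) (he : ∀ i, φ (X i) = φ' (X i)) :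
    φ = φ' := by
  obtain ⟨e, hne⟩ := exists_nS_pow_le O R
  refine AlgHom.ext fun g => sub_eq_zero.1 (eq_zero_of_forall_mem (O := O) fun M => ?_)
  have ht := sub_truncTotal_mem g (e * M)
  have h1 := map_xIdeal_pow φ h ht
  have h2 := map_xIdeal_pow φ' (fun i => he i ▸ h i) ht
  rw [map_sub, hom_poly φ] at h1
  rw [map_sub, hom_poly φ', ← funext he] at h2
  have h3 := sub_mem h1 h2
  rw [sub_sub_sub_cancel_right, pow_mul] at h3
  exact Ideal.pow_right_mono hne M h3

/-- Homomorphisms congruent on the variables are congruent. -/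
theorem sub_mem_of_forall [IsNoetherianRing O] [IsAdicComplete (maximalIdeal O) O] [Module.Finite O R]
    {φ φ' : MvPowerSeries (Fin n) O →ₐ[O] R} (h : ∀ i, φ (X i) ∈ nS O R) (L : Ideal R)
    (he : ∀ i, φ (X i) - φ' (X i) ∈ L) (g : MvPowerSeries (Fin n) O) : φ g - φ' g ∈ L := by
  have hq : (Ideal.Quotient.mkₐ O L).comp φ = (Ideal.Quotient.mkₐ O L).comp φ' := by
    refine hom_ext (fun i => ?_) fun i => Ideal.Quotient.eq.2 (he i)
    show Ideal.Quotient.mk L (φ (X i)) ∈ _
    obtain ⟨k, hk⟩ := h i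
    refine ⟨k, ?_⟩
    rw [← map_pow]
    have := Ideal.mem_map_of_mem (Ideal.Quotient.mk L) hk
    rwa [Ideal.map_map] at this
  exact Ideal.Quotient.eq.1 (AlgHom.congr_fun hq g)

theorem exists_hom_nil {B : Type w} [CommRing B] [Algebra O B] (J : Ideal B) (N : ℕ) (hJ : J ^ N = ⊥)
    (y : Fin n → B) (hy : ∀ i, y i ∈ J) :
    ∃ G : MvPowerSeries (Fin n) O →ₐ[O] B, ∀ i, G (X i) = y i := by
  have hle : MvPolynomial.idealOfVars (Fin n) O ^ N ≤ RingHom.ker (MvPolynomial.aeval y) := by
    refine fun p hp => Ideal.mem_bot.1 (hJ ▸ ?_)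
    have h2 := Ideal.mem_map_of_mem (MvPolynomial.aeval y) hp
    rw [Ideal.map_pow] at h2
    refine Ideal.pow_right_mono ?_ N h2
    rw [MvPolynomial.idealOfVars, Ideal.map_span, Ideal.span_le]
    rintro _ ⟨_, ⟨i, rfl⟩, rfl⟩
    rw [SetLike.mem_coe, MvPolynomial.aeval_X]
    exact hy i
  haveI : IsScalarTower O (MvPolynomial (Fin n) O) (MvPowerSeries (Fin n) O) :=
    IsScalarTower.of_algebraMap_eq fun l => by
      simp [MvPowerSeries.algebraMap_apply', MvPolynomial.algebraMap_apply, MvPowerSeries.algebraMap_apply,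
        MvPolynomial.coe_C]
  refine ⟨(Ideal.Quotient.liftₐ _ (MvPolynomial.aeval y) hle).comp
      ((truncTotalAlgHom (Fin n) O N).restrictScalars O), fun i => ?_⟩
  change MvPolynomial.aeval y (truncTotal N (X i : MvPowerSeries (Fin n) O)) = _
  rw [← MvPolynomial.aeval_X (R := O) y i, ← sub_eq_zero, ← map_sub]
  refine hle ((MvPolynomial.mem_pow_idealOfVars_iff' _ _).2 fun d hd => ?_)
  rw [MvPolynomial.coeff_sub, coeff_truncTotal _ hd, ← MvPolynomial.coe_X, MvPolynomial.coeff_coe, sub_self]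

/-- Homomorphisms with prescribed values of the variables. -/
theorem exists_hom [IsNoetherianRing O] [IsAdicComplete (maximalIdeal O) O] [Module.Finite O R]
    (y : Fin n → R) (hy : ∀ i, y i ∈ nS O R) : ∃ φ : MvPowerSeries (Fin n) O →ₐ[O] R, ∀ i, φ (X i) = y i := by
  haveI := complete O R
  obtain ⟨e, he⟩ := exists_nS_pow_le O R
  have hJ : ∀ j, ((nS O R).map (Ideal.Quotient.mk (mS O R ^ j))) ^ (e * j) = ⊥ := fun j => by
    simp only [← Ideal.map_pow, Ideal.map_eq_bot_iff_le_ker, Ideal.mk_ker, pow_mul]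
    rw [Ideal.map_pow]
    exact Ideal.pow_right_mono he j
  choose f hf using fun j => exists_hom_nil (O := O) _ (e * j) (hJ j)
    (fun i => Ideal.Quotient.mk (mS O R ^ j) (y i)) fun i => Ideal.mem_map_of_mem _ (hy i)
  have hcompat : ∀ {a b : ℕ} (h : a ≤ b),
      (Ideal.Quotient.factorₐ O (Ideal.pow_le_pow_right h)).comp (f b) = f a := fun {a b} h => by
    refine hom_ext (fun i => ?_) fun i => ?_
    · rw [AlgHom.comp_apply, hf]
      show Ideal.Quotient.mk (mS O R ^ a) (y i) ∈ _
      obtain ⟨k, hk⟩ := hy i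
      refine ⟨k, ?_⟩
      rw [← map_pow]
      have := Ideal.mem_map_of_mem (Ideal.Quotient.mk (mS O R ^ a)) hk
      rwa [Ideal.map_map] at this
    · rw [AlgHom.comp_apply, hf, hf]
      rfl
  refine ⟨IsAdicComplete.liftAlgHom (mS O R) f hcompat, fun i => ?_⟩
  refine (IsHausdorff.eq_iff_smodEq (I := mS O R)).2 fun j => ?_
  rw [smul_eq_mul, Ideal.mul_top, SModEq.sub_mem, ← Ideal.Quotient.eq, IsAdicComplete.mk_liftAlgHom, hf]

theorem pderiv_xIdeal_pow (j : Fin n) (N : ℕ) {g : MvPowerSeries (Fin n) O} (hg : g ∈ xIdeal O n ^ (N + 1)) :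
    pderiv O j g ∈ xIdeal O n ^ N := by
  induction N generalizing g with
  | zero => simp
  | succ N ih =>
    rw [pow_succ'] at hg
    induction hg using Submodule.mul_induction_on' with
    | mem_mul_mem a ha b hb =>
      rw [Derivation.leibniz, smul_eq_mul, smul_eq_mul]
      refine add_mem ?_ (Ideal.mul_mem_right _ _ hb)
      rw [pow_succ']
      exact Ideal.mul_mem_mul ha (ih hb)
    | add a _ b _ ha hb => rw [map_add]; exact add_mem ha hb

theorem pderiv_iterate_xIdeal_pow (j : Fin n) (l N : ℕ) {g : MvPowerSeries (Fin n) O}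
    (hg : g ∈ xIdeal O n ^ (N + l)) : (pderiv O j)^[l] g ∈ xIdeal O n ^ N := by
  induction l generalizing g with
  | zero => simpa using hg
  | succ l ih =>
    rw [Function.iterate_succ_apply]
    exact ih (pderiv_xIdeal_pow j (N + l) hg)

end Groth.Agent.Font54
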