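import Groth.Prelude.Def_W4c1noabschz1DP
import Groth.Agent.Hopf35.LunaComplete
import Groth.Agent.Font54.PSEval
import Mathlib.Algebra.Polynomial.Derivative

/-!
The divided power filtration.
-/

set_option autoImplicit false

universe u v

open W4c1noabschz1

namespace Groth.Agent.Font54

variable {S : Type v} [CommRing S] {I : Ideal S} (hI : DividedPowers I)

theorem dpPow_antitone {a b : ℕ} (h : a ≤ b) : dpPow hI b ≤ dpPow hI a :=
  Ideal.span_mono fun _ ⟨r, x, n, hx, hn, e⟩ => ⟨r, x, n, hx, h.trans hn, e⟩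

theorem dpPow_zero : dpPow hI 0 = ⊤ :=
  (Ideal.eq_top_iff_one _).2 (Ideal.subset_span ⟨0, Fin.elim0, Fin.elim0, fun i => i.elim0, Nat.zero_le _, by simp⟩)

theorem dpPow_le {m : ℕ} (hm : 1 ≤ m) : dpPow hI m ≤ I := Ideal.span_le.2 fun _ ⟨r, x, n, hx, hn, e⟩ => by
  subst e
  obtain ⟨i, hi⟩ : ∃ i, n i ≠ 0 := by
    by_contra h
    simp only [not_exists, not_not] at h
    simp [h] at hn
    omega
  rw [← Finset.prod_erase_mul _ _ (Finset.mem_univ i)]
  exact Ideal.mul_mem_left _ _ (hI.dpow_mem hi (hx i))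

theorem dpow_mem_dpPow {x : S} (hx : x ∈ I) {m n : ℕ} (h : m ≤ n) : hI.dpow n x ∈ dpPow hI m :=
  Ideal.subset_span ⟨1, fun _ => x, fun _ => n, fun _ => hx, by simpa using h, by simp⟩

theorem le_dpPow_one : I ≤ dpPow hI 1 := fun x hx => hI.dpow_one hx ▸ dpow_mem_dpPow hI hx le_rfl

theorem mul_dpPow_le (a b : ℕ) : dpPow hI a * dpPow hI b ≤ dpPow hI (a + b) := by
  rw [dpPow, dpPow, Ideal.span_mul_span']
  refine Ideal.span_mono ?_
  rintro _ ⟨_, ⟨r, x, n, hx, hn, rfl⟩, _, ⟨r', x', n', hx', hn', rfl⟩, rfl⟩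
  refine ⟨r + r', Fin.append x x', Fin.append n n', fun i => ?_, ?_, ?_⟩
  · induction i using Fin.addCases with
    | left i => simpa using hx i
    | right i => simpa using hx' i
  · rw [Fin.sum_univ_add]; simp only [Fin.append_left, Fin.append_right]; omega
  · rw [Fin.prod_univ_add]; simp

theorem mul_mem_dpPow {a b : ℕ} {x y : S} (hx : x ∈ dpPow hI a) (hy : y ∈ dpPow hI b) :
    x * y ∈ dpPow hI (a + b) :=
  mul_dpPow_le hI a b (Ideal.mul_mem_mul hx hy)

theorem dpow_mem_of_mem {m : ℕ} (hm : 1 ≤ m) {t : S} (ht : t ∈ dpPow hI m) :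
    ∀ l : ℕ, hI.dpow l t ∈ dpPow hI (l * m) := by
  classical
  induction ht using Submodule.span_induction with
  | mem z hz =>
    obtain ⟨r, x, n, hx, hn, rfl⟩ := hz
    intro l
    obtain ⟨i, hi⟩ : ∃ i, n i ≠ 0 := by
      by_contra h
      simp only [not_exists, not_not] at h
      simp [h] at hn
      omega
    rw [← Finset.prod_erase_mul _ _ (Finset.mem_univ i), hI.dpow_mul (hI.dpow_mem hi (hx i)),
      hI.dpow_comp hi (hx i), ← Finset.prod_pow]
    have h1 : (∏ j ∈ Finset.univ.erase i, hI.dpow (n j) (x j) ^ l) ∈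
        dpPow hI (∑ j ∈ Finset.univ.erase i, n j * l) := by
      induction (Finset.univ.erase i) using Finset.induction with
      | empty => simp [dpPow_zero hI]
      | insert j s hj ih =>
        rw [Finset.prod_insert hj, Finset.sum_insert hj]
        refine mul_mem_dpPow hI ?_ ih
        clear ih
        induction l with
        | zero => simp [dpPow_zero hI]
        | succ l ih =>
          rw [pow_succ, mul_add, mul_one]
          exact mul_mem_dpPow hI ih (dpow_mem_dpPow hI (hx j) le_rfl)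
    have h2 := mul_mem_dpPow hI h1 (Ideal.mul_mem_left _ (Nat.uniformBell l (n i) : S)
      (dpow_mem_dpPow hI (hx i) (le_refl (l * n i))))
    refine dpPow_antitone hI ?_ h2
    rw [mul_comm l (n i), ← Finset.sum_mul, ← add_mul, Finset.sum_erase_add _ _ (Finset.mem_univ i), mul_comm l]
    exact Nat.mul_le_mul_right _ hn
  | zero =>
    intro l
    rcases Nat.eq_zero_or_pos l with rfl | hl
    · simp [dpPow_zero hI]
    · rw [hI.dpow_eval_zero hl.ne']; exact zero_mem _
  | add x y hx hy ihx ihy =>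
    intro l
    rw [hI.dpow_add (dpPow_le hI hm hx) (dpPow_le hI hm hy)]
    refine Ideal.sum_mem _ fun k hk => ?_
    rw [Finset.HasAntidiagonal.mem_antidiagonal] at hk
    rw [← hk, add_mul]
    exact mul_mem_dpPow hI (ihx k.1) (ihy k.2)
  | smul c x hx ih =>
    intro l
    rw [smul_eq_mul, hI.dpow_mul (dpPow_le hI hm hx)]
    exact Ideal.mul_mem_left _ _ (ih l)

section Complete

variable {O : Type u} [CommRing O] [IsLocalRing O] [Algebra O S]

theorem exists_dpPow_le [IsNoetherianRing O] [IsAdicComplete (IsLocalRing.maximalIdeal O) O]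
    [Module.Finite O S] (htn : IsDPTopNilpotent hI) (M : ℕ) : ∃ c, dpPow hI c ≤ mS O S ^ M := by
  obtain ⟨c, hc⟩ := Hopf35.LunaComplete.exists_le_pow_smul (R := O)
    (fun i => (dpPow hI i).restrictScalars O) (fun a b h => dpPow_antitone hI h)
    (eq_bot_iff.2 fun x hx => by
      have h : x ∈ ⨅ m, dpPow hI m := Submodule.mem_iInf _ |>.2 fun i => (Submodule.mem_iInf _).1 hx i
      rw [htn] at h
      exact h) M
  refine ⟨c, fun x hx => ?_⟩
  have := hc hx
  rw [Ideal.smul_top_eq_map, Submodule.restrictScalars_mem, Ideal.map_pow] at this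
  exact this

include hI in
theorem le_nS [IsNoetherianRing O] [IsAdicComplete (IsLocalRing.maximalIdeal O) O]
    [Module.Finite O S] (p : ℕ) [Fact p.Prime] (hp : (p : O) ∈ IsLocalRing.maximalIdeal O) :
    I ≤ nS O S := fun x hx => ⟨p, by
  rw [← hI.factorial_mul_dpow_eq_pow hx]
  refine Ideal.mul_mem_right _ _ ?_
  obtain ⟨c, hc⟩ := Nat.dvd_factorial (Fact.out : p.Prime).pos le_rfl
  rw [hc, Nat.cast_mul]
  exact Ideal.mul_mem_right _ _ (by simpa using Ideal.mem_map_of_mem (algebraMap O S) hp)⟩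

end Complete

end Groth.Agent.Font54
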