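import Groth.Agent.Font54.Taylor
import Mathlib.LinearAlgebra.Matrix.NonsingularInverse

/-!
Lifting of roots along divided power ideals for normalised systems of equations.
-/

set_option autoImplicit false

universe u v w

open MvPowerSeries IsLocalRing W4c1noabschz1

noncomputable section

namespace Groth.Agent.Font54

variable {O : Type u} [CommRing O] {m : ℕ}

/-- A system of equations whose Jacobian is `a` times an invertible matrix in the coordinates of `s`
and which is linear in the other coordinates. -/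
structure NormSys (a : O) (f : Fin m → MvPowerSeries (Fin m) O) where
  /-- The coordinates. -/
  s : Finset (Fin m)
  /-- The constants. -/
  c : Fin m → O
  /-- The reduced Jacobian. -/
  G : Matrix (Fin m) (Fin m) (MvPowerSeries (Fin m) O)
  out : ∀ i, i ∉ s → f i = X i + C (c i)
  jac : ∀ i ∈ s, ∀ j ∈ s, pderiv O j (f i) - C a * G i j ∈ Ideal.span (Set.range f)
  G_out : ∀ i j, ¬(i ∈ s ∧ j ∈ s) → G i j = if i = j then 1 else 0
  unit : IsUnit G.det

variable {a : O} {f : Fin m → MvPowerSeries (Fin m) O}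

/-- The ideal stable under differentiation. -/
abbrev stabIdeal (a : O) (f : Fin m → MvPowerSeries (Fin m) O) : Ideal (MvPowerSeries (Fin m) O) :=
  Ideal.span (insert (C a) (Set.range f))

theorem NormSys.pderiv_mem (N : NormSys a f) {j : Fin m} (hj : j ∈ N.s) {g : MvPowerSeries (Fin m) O}
    (hg : g ∈ stabIdeal a f) : pderiv O j g ∈ stabIdeal a f := by
  induction hg using Submodule.span_induction with
  | mem x hx =>
    rcases hx with rfl | ⟨i, rfl⟩
    · rw [pderiv_C]; exact zero_mem _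
    · by_cases hi : i ∈ N.s
      · have h := Ideal.span_mono (Set.subset_insert (C a) _) (N.jac i hi j hj)
        simpa using add_mem h (Ideal.mul_mem_right (N.G i j) _ (Ideal.subset_span (Set.mem_insert (C a) (Set.range f))))
      · rw [N.out i hi, map_add, pderiv_C, add_zero, pderiv_X_of_ne (by rintro rfl; exact hi hj)]
        exact zero_mem _
  | zero => rw [map_zero]; exact zero_mem _
  | add x y _ _ hx hy => rw [map_add]; exact add_mem hx hy
  | smul r x hx ih =>
    rw [smul_eq_mul, Derivation.leibniz, smul_eq_mul, smul_eq_mul]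
    exact add_mem (Ideal.mul_mem_left _ _ ih) (Ideal.mul_mem_right _ _ hx)

theorem NormSys.iterate_mem (N : NormSys a f) {j : Fin m} (hj : j ∈ N.s) (l : ℕ)
    {g : MvPowerSeries (Fin m) O} (hg : g ∈ stabIdeal a f) : (pderiv O j)^[l] g ∈ stabIdeal a f := by
  induction l with
  | zero => exact hg
  | succ l ih => rw [Function.iterate_succ_apply']; exact N.pderiv_mem hj ih

section

variable [IsLocalRing O] [IsNoetherianRing O] [IsAdicComplete (maximalIdeal O) O]
  {S : Type v} [CommRing S] [Algebra O S] [Module.Finite O S]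
  {I : Ideal S} (hI : DividedPowers I) (htn : IsDPTopNilpotent hI) (hIn : I ≤ nS O S)

theorem map_stab (φ : MvPowerSeries (Fin m) O →ₐ[O] S)
    (hf : ∀ i, φ (f i) ∈ Ideal.span {algebraMap O S a}) {g : MvPowerSeries (Fin m) O}
    (hg : g ∈ stabIdeal a f) : φ g ∈ Ideal.span {algebraMap O S a} := by
  induction hg using Submodule.span_induction with
  | mem x hx =>
    rcases hx with rfl | ⟨i, rfl⟩
    · rw [show φ (C a) = algebraMap O S a from φ.commutes a]
      exact Ideal.mem_span_singleton_self _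
    · exact hf i
  | zero => rw [map_zero]; exact zero_mem _
  | add x y _ _ hx hy => rw [map_add]; exact add_mem hx hy
  | smul r x _ ih => rw [smul_eq_mul, map_mul]; exact Ideal.mul_mem_left _ _ ih

include htn hIn in
/-- Taylor's formula in several variables, to first order. -/
theorem NormSys.taylor (N : NormSys a f) {φ : MvPowerSeries (Fin m) O →ₐ[O] S} (hφ : ∀ i, φ (X i) ∈ nS O S)
    (hf : ∀ i, φ (f i) ∈ Ideal.span {algebraMap O S a}) {n : ℕ} (hn : 1 ≤ n) (v : Fin m → S)
    (hv : ∀ i, v i ∈ dpPow hI n) (T : Finset (Fin m)) (hT : T ⊆ N.s) :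
    ∀ (φ' : MvPowerSeries (Fin m) O →ₐ[O] S), (∀ i, φ' (X i) = φ (X i) + if i ∈ T then v i else 0) →
      ∀ g ∈ stabIdeal a f, φ' g - φ g - ∑ j ∈ T, φ (pderiv O j g) * v j ∈
        Ideal.span {algebraMap O S a} * dpPow hI (2 * n) := by
  classical
  induction T using Finset.induction with
  | empty =>
    intro φ' he g _
    rw [hom_ext hφ (fun i => by rw [he]; simp) (φ' := φ')]
    simp
  | insert j T hj ih =>
    intro φ'' he g hg
    obtain ⟨hjs, hTs⟩ := Finset.insert_subset_iff.1 hT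
    obtain ⟨φ', hφ'⟩ := exists_hom (O := O) (fun i => φ (X i) + if i ∈ T then v i else 0) fun i => by
      split_ifs
      · exact add_mem (hφ i) (hIn (dpPow_le hI hn (hv i)))
      · rw [add_zero]; exact hφ i
    have hφ'n : ∀ i, φ' (X i) ∈ nS O S := fun i => by
      rw [hφ']; split_ifs
      · exact add_mem (hφ i) (hIn (dpPow_le hI hn (hv i)))
      · rw [add_zero]; exact hφ i
    have ih' := ih hTs φ' hφ'
    have hA : ∀ x ∈ stabIdeal a f, φ' x - φ x ∈ Ideal.span {algebraMap O S a} * dpPow hI n := fun x hx => by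
      have h1 := Ideal.mul_mono_right (dpPow_antitone hI (by omega : n ≤ 2 * n)) (ih' x hx)
      have h2 : ∑ i ∈ T, φ (pderiv O i x) * v i ∈ Ideal.span {algebraMap O S a} * dpPow hI n :=
        Ideal.sum_mem _ fun i hi => Ideal.mul_mem_mul (map_stab φ hf (N.pderiv_mem (hTs hi) hx)) (hv i)
      simpa using add_mem h1 h2
    have hstab : ∀ x ∈ stabIdeal a f, φ' x ∈ Ideal.span {algebraMap O S a} := fun x hx => by
      simpa using add_mem (Ideal.mul_le_left (hA x hx)) (map_stab φ hf hx)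
    have h1 := taylor_one hI htn hIn hφ'n j hn (hv j) (φ' := φ'') (fun i => by
        rw [he, hφ']
        by_cases hij : i = j
        · subst hij; simp [hj]
        · simp [hij]) g fun l _ => hstab _ (N.iterate_mem hjs l hg)
    have h2 : (φ' (pderiv O j g) - φ (pderiv O j g)) * v j ∈ Ideal.span {algebraMap O S a} * dpPow hI (2 * n) := by
      have := Ideal.mul_mem_mul (hA _ (N.pderiv_mem hjs hg)) (hv j)
      rw [mul_assoc] at this
      exact Ideal.mul_mono_right ((mul_dpPow_le hI n n).trans (dpPow_antitone hI (by omega))) this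
    convert add_mem (add_mem h1 h2) (ih' g hg) using 1
    rw [Finset.sum_insert hj]
    ring

include htn hIn in
/-- The first order expansion of the equations. -/
theorem NormSys.expand (N : NormSys a f) {φ φ' : MvPowerSeries (Fin m) O →ₐ[O] S} (hφ : ∀ i, φ (X i) ∈ nS O S)
    {n : ℕ} (hn : 1 ≤ n) (hf : ∀ i, φ (f i) ∈ Ideal.span {algebraMap O S a} * dpPow hI n) (v : Fin m → S)
    (hv : ∀ i, v i ∈ dpPow hI n) (hv0 : ∀ i, i ∉ N.s → v i = 0) (he : ∀ i, φ' (X i) = φ (X i) + v i) (i : Fin m)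
    (hi : i ∈ N.s) :
    φ' (f i) - φ (f i) - algebraMap O S a * ((N.G.map φ).mulVec v) i ∈
      Ideal.span {algebraMap O S a} * dpPow hI (2 * n) := by
  classical
  have hfa : ∀ i, φ (f i) ∈ Ideal.span {algebraMap O S a} := fun i => Ideal.mul_le_left (hf i)
  have h1 := N.taylor hI htn hIn hφ hfa hn v hv N.s subset_rfl φ' (fun i => by
    rw [he]; by_cases h : i ∈ N.s
    · rw [if_pos h]
    · rw [if_neg h, hv0 i h]) (f i) (Ideal.subset_span (Set.mem_insert_of_mem _ ⟨i, rfl⟩))
  have h2 : ∀ j ∈ N.s, φ (pderiv O j (f i) - C a * N.G i j) * v j ∈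
      Ideal.span {algebraMap O S a} * dpPow hI (2 * n) := fun j hj => by
    have : φ (pderiv O j (f i) - C a * N.G i j) ∈ Ideal.span {algebraMap O S a} * dpPow hI n := by
      refine Submodule.span_induction (p := fun x _ => φ x ∈ Ideal.span {algebraMap O S a} * dpPow hI n)
        ?_ ?_ ?_ ?_ (N.jac i hi j hj)
      · rintro _ ⟨k, rfl⟩; exact hf k
      · rw [map_zero]; exact zero_mem _
      · intro x y _ _ hx hy; rw [map_add]; exact add_mem hx hy
      · intro r x _ hx; rw [smul_eq_mul, map_mul]; exact Ideal.mul_mem_left _ _ hx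
    have h3 := Ideal.mul_mem_mul this (hv j)
    rw [mul_assoc] at h3
    exact Ideal.mul_mono_right ((mul_dpPow_le hI n n).trans (dpPow_antitone hI (by omega))) h3
  have hm : ((N.G.map φ).mulVec v) i = ∑ j ∈ N.s, φ (N.G i j) * v j :=
    (Finset.sum_subset (Finset.subset_univ N.s) fun j _ hj => by rw [hv0 j hj]; exact mul_zero _).symm
  have hC : φ (C a) = algebraMap O S a := φ.commutes a
  have h4 : ∀ j, φ (pderiv O j (f i) - C a * N.G i j) * v j =
      φ (pderiv O j (f i)) * v j - algebraMap O S a * (φ (N.G i j) * v j) := fun j => by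
    rw [map_sub, map_mul, hC, sub_mul, mul_assoc]
  have h5 := add_mem h1 (Ideal.sum_mem _ h2)
  rw [Finset.sum_congr rfl fun j _ => h4 j, Finset.sum_sub_distrib, ← Finset.mul_sum, ← hm] at h5
  rw [sub_add_sub_cancel] at h5
  exact h5

theorem NormSys.mulVec_out (N : NormSys a f) (φ : MvPowerSeries (Fin m) O →ₐ[O] S) (v : Fin m → S) {i : Fin m}
    (hi : i ∉ N.s) : ((N.G.map φ).mulVec v) i = v i := by
  rw [Matrix.mulVec, dotProduct, Finset.sum_eq_single i]
  · rw [Matrix.map_apply, N.G_out i i (fun h => hi h.1), if_pos rfl, map_one, one_mul]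
  · intro j _ hj
    rw [Matrix.map_apply, N.G_out i j (fun h => hi h.1), if_neg hj.symm, map_zero, zero_mul]
  · intro h; exact absurd (Finset.mem_univ i) h

theorem NormSys.isUnit_map (N : NormSys a f) (φ : MvPowerSeries (Fin m) O →ₐ[O] S) :
    IsUnit (N.G.map φ).det := by
  have h := N.unit.map φ
  rwa [AlgHom.map_det] at h

include htn hIn in
theorem NormSys.step (N : NormSys a f) {φ : MvPowerSeries (Fin m) O →ₐ[O] S} (hφ : ∀ i, φ (X i) ∈ nS O S)
    {n : ℕ} (hn : 1 ≤ n) (hf : ∀ i, φ (f i) ∈ Ideal.span {algebraMap O S a} * dpPow hI n)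
    (h0 : ∀ i, i ∉ N.s → φ (f i) = 0) :
    ∃ φ' : MvPowerSeries (Fin m) O →ₐ[O] S, (∀ i, φ' (X i) ∈ nS O S) ∧ (∀ i, i ∉ N.s → φ' (f i) = 0) ∧
      (∀ i, φ' (f i) ∈ Ideal.span {algebraMap O S a} * dpPow hI (n + 1)) ∧
      ∀ i, φ' (X i) - φ (X i) ∈ dpPow hI n := by
  classical
  have hex : ∀ i, ∃ w ∈ dpPow hI n, φ (f i) = algebraMap O S a * w ∧ (i ∉ N.s → w = 0) := fun i => by
    by_cases hi : i ∈ N.s
    · obtain ⟨w, hw, e⟩ := Ideal.mem_span_singleton_mul.1 (hf i)
      exact ⟨w, hw, e.symm, fun h => absurd hi h⟩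
    · exact ⟨0, zero_mem _, by rw [h0 i hi, mul_zero], fun _ => rfl⟩
  choose w hw hwe hw0 using hex
  let v : Fin m → S := (N.G.map φ)⁻¹.mulVec fun i => -w i
  have hv : ∀ i, v i ∈ dpPow hI n := fun i => by
    show ∑ j, (N.G.map φ)⁻¹ i j * -w j ∈ _
    exact Ideal.sum_mem _ fun j _ => Ideal.mul_mem_left _ _ (neg_mem (hw j))
  have hMv : (N.G.map φ).mulVec v = fun i => -w i := by
    simp only [v, Matrix.mulVec_mulVec, Matrix.mul_nonsing_inv _ (N.isUnit_map φ), Matrix.one_mulVec]
  have hv0 : ∀ i, i ∉ N.s → v i = 0 := fun i hi => by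
    have h := congrFun hMv i
    rw [N.mulVec_out φ v hi, hw0 i hi, neg_zero] at h
    exact h
  have hn' : ∀ i, φ (X i) + v i ∈ nS O S := fun i => add_mem (hφ i) (hIn (dpPow_le hI hn (hv i)))
  obtain ⟨φ', hφ'⟩ := exists_hom (O := O) _ hn'
  have h0' : ∀ i, i ∉ N.s → φ' (f i) = 0 := fun i hi => by
    have h := h0 i hi
    rw [N.out i hi, map_add] at h ⊢
    rw [hφ', hv0 i hi, add_zero]
    exact (congrArg (φ (X i) + ·) ((φ'.commutes (N.c i)).trans (φ.commutes (N.c i)).symm)).trans h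
  refine ⟨φ', fun i => hφ' i ▸ hn' i, h0', fun i => ?_, fun i => by rw [hφ', add_sub_cancel_left]; exact hv i⟩
  by_cases hi : i ∈ N.s
  · have h := N.expand hI htn hIn hφ hn hf v hv hv0 hφ' i hi
    rw [hMv, hwe, mul_neg, sub_neg_eq_add, sub_add_cancel] at h
    exact Ideal.mul_mono_right (dpPow_antitone hI (by omega)) h
  · rw [h0' i hi]; exact zero_mem _

include htn hIn in
/-- Existence of a root near an approximate root. -/
theorem NormSys.exists_root (N : NormSys a f) {φ : MvPowerSeries (Fin m) O →ₐ[O] S}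
    (hφ : ∀ i, φ (X i) ∈ nS O S) (hf : ∀ i, φ (f i) ∈ Ideal.span {algebraMap O S a} * I)
    (h0 : ∀ i, i ∉ N.s → φ (f i) = 0) :
    ∃ φ' : MvPowerSeries (Fin m) O →ₐ[O] S, (∀ i, φ' (X i) ∈ nS O S) ∧ (∀ i, φ' (f i) = 0) ∧
      ∀ i, φ' (X i) - φ (X i) ∈ I := by
  classical
  haveI hcS := complete O S
  let Q := fun (k : ℕ) (ψ : MvPowerSeries (Fin m) O →ₐ[O] S) => (∀ i, ψ (X i) ∈ nS O S) ∧
    (∀ i, i ∉ N.s → ψ (f i) = 0) ∧ ∀ i, ψ (f i) ∈ Ideal.span {algebraMap O S a} * dpPow hI (k + 1)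
  have hstep : ∀ (k : ℕ) (ψ : {ψ // Q k ψ}), ∃ ψ' : {ψ // Q (k + 1) ψ},
      ∀ i, ψ'.1 (X i) - ψ.1 (X i) ∈ dpPow hI (k + 1) := fun k ψ => by
    obtain ⟨ψ', h1, h2, h3, h4⟩ := N.step hI htn hIn ψ.2.1 (Nat.le_add_left 1 k) ψ.2.2.2 ψ.2.2.1
    exact ⟨⟨ψ', h1, h2, h3⟩, h4⟩
  choose next hnext using hstep
  let seq : ∀ k, {ψ // Q k ψ} :=
    Nat.rec ⟨φ, hφ, h0, fun i => Ideal.mul_mono_right (le_dpPow_one hI) (hf i)⟩ fun k ψ => next k ψ
  have hcau : ∀ {b b' : ℕ}, b ≤ b' → ∀ i, (seq b').1 (X i) - (seq b).1 (X i) ∈ dpPow hI (b + 1) := by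
    intro b b' hb i
    induction hb with
    | refl => rw [sub_self]; exact zero_mem _
    | @step k hk ih =>
      rw [show (seq (k + 1)).1 (X i) - (seq b).1 (X i) =
        ((next k (seq k)).1 (X i) - (seq k).1 (X i)) + ((seq k).1 (X i) - (seq b).1 (X i)) from
          (sub_add_sub_cancel _ _ _).symm]
      exact add_mem (dpPow_antitone hI (Nat.succ_le_succ hk) (hnext k (seq k) i)) ih
  choose c hc using fun M => exists_dpPow_le (O := O) hI htn M
  let b : ℕ → ℕ := fun M => ∑ i ∈ Finset.range (M + 1), c i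
  have hbc : ∀ M, dpPow hI (b M + 1) ≤ mS O S ^ M := fun M => (dpPow_antitone hI
    ((Finset.single_le_sum (fun _ _ => Nat.zero_le _) (Finset.self_mem_range_succ M)).trans (Nat.le_succ _))).trans (hc M)
  have hb : ∀ M, b M ≤ b (M + 1) := fun M => by simp [b, Finset.sum_range_succ _ (M + 1)]
  choose y hy using fun i => IsPrecomplete.prec (I := mS O S) inferInstance
    (fun {p q} h => AdicC27.smodEq_of_succ (fun M => (seq (b M)).1 (X i))
      (fun M => by rw [smul_eq_mul, Ideal.mul_top]; exact hbc M (hcau (hb M) i)) h)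
  have hy' : ∀ M i, (seq (b M)).1 (X i) - y i ∈ mS O S ^ M := fun M i => by
    have := SModEq.sub_mem.1 (hy i M)
    rwa [smul_eq_mul, Ideal.mul_top] at this
  have hyI : ∀ i, y i - φ (X i) ∈ I := fun i => mem_of_forall_mem_sup (O := O) I fun M => by
    rw [show y i - φ (X i) = ((seq (b M)).1 (X i) - (seq 0).1 (X i)) - ((seq (b M)).1 (X i) - y i) from
      (sub_sub_sub_cancel_left _ _ _).symm]
    exact sub_mem (Ideal.mem_sup_left (dpPow_le hI le_rfl (hcau (Nat.zero_le _) i))) (Ideal.mem_sup_right (hy' M i))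
  have hyn : ∀ i, y i ∈ nS O S := fun i => by
    rw [show y i = φ (X i) + (y i - φ (X i)) by ring]
    exact add_mem (hφ i) (hIn (hyI i))
  obtain ⟨φ', hφ'⟩ := exists_hom (O := O) y hyn
  refine ⟨φ', fun i => hφ' i ▸ hyn i, fun i => eq_zero_of_forall_mem (O := O) fun M => ?_,
    fun i => hφ' i ▸ hyI i⟩
  have h1 := sub_mem_of_forall (seq (b M)).2.1 (mS O S ^ M) (fun j => hφ' j ▸ hy' M j) (f i)
  have h2 := hbc M (Ideal.mul_le_right ((seq (b M)).2.2.2 i))
  simpa using sub_mem h2 h1

include htn hIn in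
/-- Uniqueness of roots. -/
theorem NormSys.root_unique (N : NormSys a f) (hreg : ∀ x : S, algebraMap O S a * x = 0 → x = 0)
    {φ φ' : MvPowerSeries (Fin m) O →ₐ[O] S} (hφ : ∀ i, φ (X i) ∈ nS O S) (hf : ∀ i, φ (f i) = 0)
    (hf' : ∀ i, φ' (f i) = 0) (hI' : ∀ i, φ' (X i) - φ (X i) ∈ I) : φ' = φ := by
  classical
  let v : Fin m → S := fun i => φ' (X i) - φ (X i)
  have he : ∀ i, φ' (X i) = φ (X i) + v i := fun i => (add_sub_cancel _ _).symm
  have hv0 : ∀ i, i ∉ N.s → v i = 0 := fun i hi => by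
    have h1 := hf i
    have h2 := hf' i
    rw [N.out i hi, map_add, show φ (C (N.c i)) = algebraMap O S (N.c i) from φ.commutes _] at h1
    rw [N.out i hi, map_add, show φ' (C (N.c i)) = algebraMap O S (N.c i) from φ'.commutes _] at h2
    linear_combination (norm := (simp only [v]; ring)) h2 - h1
  have key : ∀ n, 1 ≤ n → (∀ i, v i ∈ dpPow hI n) → ∀ i, v i ∈ dpPow hI (n + 1) := fun n hn hv => by
    have hMv : ∀ i, ((N.G.map φ).mulVec v) i ∈ dpPow hI (n + 1) := fun i => by
      by_cases hi : i ∈ N.s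
      · have h := N.expand hI htn hIn hφ hn (fun k => by rw [hf k]; exact zero_mem _) v hv hv0 he i hi
        rw [hf, hf', sub_zero, zero_sub] at h
        obtain ⟨w, hw, e⟩ := Ideal.mem_span_singleton_mul.1 (neg_mem_iff.1 h)
        rw [← sub_eq_zero.1 (hreg _ ((mul_sub _ w _).trans (sub_eq_zero.2 e)))]
        exact dpPow_antitone hI (by omega) hw
      · rw [N.mulVec_out φ v hi, hv0 i hi]; exact zero_mem _
    intro i
    have : v = (N.G.map φ)⁻¹.mulVec ((N.G.map φ).mulVec v) := by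
      rw [Matrix.mulVec_mulVec, Matrix.nonsing_inv_mul _ (N.isUnit_map φ), Matrix.one_mulVec]
    rw [this]
    show ∑ j, (N.G.map φ)⁻¹ i j * ((N.G.map φ).mulVec v) j ∈ _
    exact Ideal.sum_mem _ fun j _ => Ideal.mul_mem_left _ _ (hMv j)
  have hall : ∀ n i, v i ∈ dpPow hI (n + 1) := fun n => by
    induction n with
    | zero => exact fun i => le_dpPow_one hI (hI' i)
    | succ n ih => exact key _ (Nat.le_add_left 1 n) ih
  have hz : ∀ i, φ (X i) = φ' (X i) := fun i => by
    have : v i ∈ ⨅ k, dpPow hI k := (Submodule.mem_iInf _).2 fun k => dpPow_antitone hI (Nat.le_succ k) (hall k i)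
    rw [htn] at this
    exact (sub_eq_zero.1 (Ideal.mem_bot.1 this)).symm
  exact (hom_ext hφ hz).symm

include hI htn hIn in
/-- Unique lifting of algebra homomorphisms along a divided power ideal. -/
theorem NormSys.lifts {A : Type w} [CommRing A] [Algebra O A] (N : NormSys a f)
    (π : MvPowerSeries (Fin m) O →ₐ[O] A) (hπ : Function.Surjective π)
    (hker : RingHom.ker π = Ideal.span (Set.range f)) (hx : ∀ i, π (X i) ∈ nS O A)
    (hreg : ∀ x : S, algebraMap O S a * x = 0 → x = 0) :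
    Function.Injective (fun χ : A →ₐ[O] S => (Ideal.Quotient.mkₐ O I).comp χ) ∧
      Set.range (fun χ : A →ₐ[O] S => (Ideal.Quotient.mkₐ O I).comp χ) =
        Set.range (fun ψ : A →ₐ[O] (S ⧸ Ideal.span {algebraMap O S a} * I) =>
          (Ideal.Quotient.factorₐ O (Ideal.mul_le_right (I := Ideal.span {algebraMap O S a}) (J := I))).comp ψ) := by
  classical
  have hf0 : ∀ i, π (f i) = 0 := fun i => RingHom.mem_ker.1 (hker ▸ Ideal.subset_span ⟨i, rfl⟩)
  have hX : ∀ (χ : A →ₐ[O] S) i, χ (π (X i)) ∈ nS O S := fun χ i => by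
    obtain ⟨k, hk⟩ := hx i
    refine ⟨k, ?_⟩
    rw [← map_pow]
    have := Ideal.mem_map_of_mem χ.toRingHom hk
    rwa [Ideal.map_map, show χ.toRingHom.comp (algebraMap O A) = algebraMap O S from RingHom.ext χ.commutes] at this
  refine ⟨fun χ χ' h => ?_, Set.Subset.antisymm ?_ ?_⟩
  · have h' := N.root_unique hI htn hIn hreg (φ := χ.comp π) (φ' := χ'.comp π) (hX χ)
      (fun i => by rw [AlgHom.comp_apply, hf0, map_zero]) (fun i => by rw [AlgHom.comp_apply, hf0, map_zero])
      fun i => Ideal.Quotient.eq.1 (AlgHom.congr_fun h (π (X i))).symm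
    exact ((AlgHom.cancel_right hπ).1 h').symm
  · rintro _ ⟨χ, rfl⟩
    exact ⟨(Ideal.Quotient.mkₐ O _).comp χ, AlgHom.ext fun _ => rfl⟩
  · rintro _ ⟨ψ, rfl⟩
    choose u₀ hu₀ using fun i => Ideal.Quotient.mk_surjective (ψ (π (X i)))
    let u : Fin m → S := fun i => if i ∈ N.s then u₀ i else -algebraMap O S (N.c i)
    have hu : ∀ i, Ideal.Quotient.mk _ (u i) = ψ (π (X i)) := fun i => by
      by_cases hi : i ∈ N.s
      · simp only [u, if_pos hi, hu₀]
      · have h := congrArg ψ (hf0 i)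
        rw [N.out i hi, map_add, map_add, map_zero, show π (C (N.c i)) = algebraMap O A (N.c i) from π.commutes _,
          AlgHom.commutes] at h
        simp only [u, if_neg hi, map_neg]
        exact (eq_neg_of_add_eq_zero_left h).symm
    have hun : ∀ i, u i ∈ nS O S := fun i => by
      obtain ⟨k, hk⟩ := hx i
      have h1 := Ideal.mem_map_of_mem ψ.toRingHom hk
      rw [Ideal.map_map, show ψ.toRingHom.comp (algebraMap O A) = algebraMap O _ from RingHom.ext ψ.commutes] at h1
      change ψ (π (X i) ^ k) ∈ _ at h1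
      rw [map_pow, ← hu, ← map_pow,
        show algebraMap O (S ⧸ Ideal.span {algebraMap O S a} * I) =
          (Ideal.Quotient.mk (Ideal.span {algebraMap O S a} * I)).comp (algebraMap O S) from rfl,
        ← Ideal.map_map, Ideal.mem_quotient_iff_mem_sup] at h1
      exact Ideal.radical_isRadical _ ⟨k, sup_le Ideal.le_radical (Ideal.mul_le_right.trans hIn) h1⟩
    obtain ⟨φ, hφ⟩ := exists_hom (O := O) u hun
    have hψφ : (Ideal.Quotient.mkₐ O _).comp φ = ψ.comp π := by
      refine hom_ext (fun i => ?_) fun i => ?_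
      · show Ideal.Quotient.mk _ (φ (X i)) ∈ _
        rw [hφ]
        obtain ⟨k, hk⟩ := hun i
        refine ⟨k, ?_⟩
        rw [← map_pow]
        have := Ideal.mem_map_of_mem (Ideal.Quotient.mk (Ideal.span {algebraMap O S a} * I)) hk
        rwa [Ideal.map_map] at this
      · show Ideal.Quotient.mk _ (φ (X i)) = _
        rw [hφ, hu]; rfl
    have hfI : ∀ i, φ (f i) ∈ Ideal.span {algebraMap O S a} * I := fun i => by
      rw [← Ideal.Quotient.eq_zero_iff_mem]
      exact (AlgHom.congr_fun hψφ (f i)).trans (by rw [AlgHom.comp_apply, hf0, map_zero])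
    obtain ⟨φ', -, hr, hd⟩ := N.exists_root hI htn hIn (fun i => hφ i ▸ hun i) hfI fun i hi => by
      rw [N.out i hi, map_add, hφ, show φ (C (N.c i)) = algebraMap O S (N.c i) from φ.commutes _]
      simp only [u, if_neg hi, neg_add_cancel]
    have hle : RingHom.ker π ≤ RingHom.ker φ' := by
      rw [hker, Ideal.span_le]
      rintro _ ⟨i, rfl⟩
      exact hr i
    let χ : A →ₐ[O] S :=
      { RingHom.liftOfSurjective π.toRingHom hπ ⟨φ'.toRingHom, hle⟩ with
        commutes' := fun o => by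
          rw [← π.commutes o]
          exact (RingHom.liftOfSurjective_comp_apply π.toRingHom hπ ⟨φ'.toRingHom, hle⟩ _).trans (φ'.commutes o) }
    have hχ : ∀ g, χ (π g) = φ' g := fun g => RingHom.liftOfSurjective_comp_apply π.toRingHom hπ ⟨φ'.toRingHom, hle⟩ g
    refine ⟨χ, ?_⟩
    refine (AlgHom.cancel_right hπ).1 (AlgHom.ext fun g => ?_)
    show Ideal.Quotient.mk I (χ (π g)) =
      Ideal.Quotient.factor (Ideal.mul_le_right (I := Ideal.span {algebraMap O S a}) (J := I)) (ψ (π g))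
    rw [hχ, ← AlgHom.comp_apply ψ π, ← hψφ]
    show Ideal.Quotient.mk I (φ' g) = Ideal.Quotient.factor Ideal.mul_le_right (Ideal.Quotient.mk (Ideal.span {algebraMap O S a} * I) (φ g))
    rw [Ideal.Quotient.factor_mk, Ideal.Quotient.eq, ← neg_sub]
    exact neg_mem (sub_mem_of_forall (fun i => hφ i ▸ hun i) I (fun i => by rw [← neg_sub]; exact neg_mem (hd i)) g)

end

end Groth.Agent.Font54
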