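import Groth.Agent.CAlg6.PSEndo
import Mathlib.RingTheory.MvPowerSeries.Derivative
import Mathlib.RingTheory.MvPowerSeries.Substitution
import Mathlib.RingTheory.MvPowerSeries.Inverse
import Mathlib.LinearAlgebra.Matrix.NonsingularInverse
import Mathlib.LinearAlgebra.Dimension.Finrank
import Mathlib.Logic.Equiv.Fintype
import Mathlib.RingTheory.LocalRing.ResidueField.Basic
import Mathlib.LinearAlgebra.FiniteDimensional.Lemmas

/-!
Coordinates adapted to the linear parts of a system of power series.
-/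

set_option autoImplicit false

universe u

open MvPowerSeries IsLocalRing

noncomputable section

namespace Groth.Agent.Font54

variable {O : Type u} [CommRing O] {m : ℕ}

/-- The coefficient of the `j`-th variable. -/
abbrev lin (g : MvPowerSeries (Fin m) O) (j : Fin m) : O := coeff (Finsupp.single j 1) g

theorem lin_algHom (θ : MvPowerSeries (Fin m) O →ₐ[O] MvPowerSeries (Fin m) O)
    (h0 : ∀ i, constantCoeff (θ (X i)) = 0) (g : MvPowerSeries (Fin m) O) (j : Fin m) :
    lin (θ g) j = ∑ l, lin g l * lin (θ (X l)) j := by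
  classical
  let g' := g - C (constantCoeff g) - ∑ l, C (lin g l) * X l
  have hne : ∀ k : Fin m, Finsupp.single k 1 ≠ (0 : Fin m →₀ ℕ) := fun k => by simp
  have hg' : CAlg6.OrdGE 2 g' := by
    intro d hd
    by_cases h0d : d = 0
    · subst h0d; simp [g']
    · obtain ⟨k, rfl⟩ : ∃ k, d = Finsupp.single k 1 := by
        obtain ⟨k, hk⟩ : ∃ k, d k ≠ 0 := Finsupp.ne_iff.1 h0d
        obtain ⟨c, rfl⟩ := exists_add_of_le
          (Finsupp.single_le_iff.2 (Nat.one_le_iff_ne_zero.2 hk) : Finsupp.single k 1 ≤ d)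
        have hc : c = 0 := by
          rw [map_add, Finsupp.degree_single] at hd
          exact (Finsupp.degree_eq_zero_iff c).1 (by omega)
        exact ⟨k, by rw [hc, add_zero]⟩
      simp [g', lin, coeff_C, hne, coeff_X, Finsupp.single_eq_single_iff]
  have h1 := CAlg6.ordGE_algHom θ h0 2 g' hg' (Finsupp.single j 1) (by simp)
  have hC : ∀ c : O, θ (C c) = C c := fun c => θ.commutes c
  simp only [g', map_sub, map_sum, map_mul, hC, coeff_C_mul, coeff_C, if_neg (hne j), sub_zero] at h1
  exact sub_eq_zero.1 h1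

theorem constantCoeff_pderiv (g : MvPowerSeries (Fin m) O) (j : Fin m) :
    constantCoeff (pderiv O j g) = lin g j := by
  rw [← coeff_zero_eq_constantCoeff_apply, coeff_pderiv]
  simp

variable [IsLocalRing O]

/-- After a change of coordinates and a permutation, a system of equations is linear outside a set
of coordinates in which its linear parts vanish at the closed point. -/
theorem exists_adapted (f : Fin m → MvPowerSeries (Fin m) O) :
    ∃ (θ : MvPowerSeries (Fin m) O ≃ₐ[O] MvPowerSeries (Fin m) O) (σ : Equiv.Perm (Fin m)) (s : Finset (Fin m)),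
      (∀ i, constantCoeff (θ (X i)) = 0) ∧
      (∀ i, i ∉ s → θ.symm (f (σ i)) = X i + C (constantCoeff (f (σ i)))) ∧
      ∀ i, ∀ j ∈ s, lin (θ.symm (f (σ i))) j ∈ maximalIdeal O := by
  classical
  let κ := ResidueField O
  let v : Fin m ⊕ Fin m → (Fin m → κ) :=
    Sum.elim (fun i j => residue O (lin (f i) j)) (fun i => Pi.single i 1)
  obtain ⟨b₁, hb₁, -, hspan₁, hli₁⟩ := exists_linearIndepOn_extension (K := κ) (v := v)
    (linearIndepOn_empty κ v) (Set.empty_subset (Set.range Sum.inl))
  obtain ⟨b₂, -, hb₁₂, hspan₂, hli₂⟩ := exists_linearIndepOn_extension (K := κ) (v := v) hli₁ (Set.subset_univ b₁)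
  let B : Finset (Fin m ⊕ Fin m) := b₂.toFinset
  let s : Finset (Fin m) := B.toRight
  let T : Finset (Fin m) := B.toLeft
  have hcard : T.card + s.card = m := by
    rw [Finset.card_toLeft_add_card_toRight]
    have h1 : Submodule.span κ (v '' b₂) = ⊤ := top_le_iff.1 (by
      rw [← (Pi.basisFun κ (Fin m)).span_eq, Submodule.span_le]
      rintro _ ⟨i, rfl⟩
      refine hspan₂ ⟨Sum.inr i, trivial, ?_⟩
      simp [v, Pi.basisFun_apply])
    have h2 := finrank_span_eq_card (R := κ) hli₂
    rw [show Set.range (fun x : b₂ => v x) = v '' b₂ from (Set.image_eq_range v b₂).symm, h1, finrank_top,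
      Module.finrank_fin_fun] at h2
    exact (Set.toFinset_card b₂).trans h2.symm
  have hT : Fintype.card {x // x ∉ s} = Fintype.card {x // x ∈ T} := by
    rw [Fintype.card_coe, Fintype.card_subtype_compl, Fintype.card_coe, Fintype.card_fin]
    omega
  let e₀ : {x // x ∉ s} ≃ {x // x ∈ T} := Fintype.equivOfCardEq hT
  let σ : Equiv.Perm (Fin m) := e₀.extendSubtype
  let y : Fin m → MvPowerSeries (Fin m) O := fun i =>
    if i ∈ s then X i else f (σ i) - C (constantCoeff (f (σ i)))
  have hy0 : ∀ i, constantCoeff (y i) = 0 := fun i => by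
    simp only [y]; split_ifs <;> simp
  let θ₀ : MvPowerSeries (Fin m) O →ₐ[O] MvPowerSeries (Fin m) O :=
    substAlgHom (hasSubst_of_constantCoeff_zero hy0)
  have hθX : ∀ i, θ₀ (X i) = y i := fun i => by
    show substAlgHom (hasSubst_of_constantCoeff_zero hy0) (X i) = _
    rw [substAlgHom_X]
  have hθ0 : ∀ i, constantCoeff (θ₀ (X i)) = 0 := fun i => by rw [hθX]; exact hy0 i
  let M : Matrix (Fin m) (Fin m) O := Matrix.of fun i j => lin (θ₀ (X i)) j
  let ψ : Fin m → b₂ := fun i => if h : i ∈ s then ⟨Sum.inr i, by simpa [s, B] using h⟩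
    else ⟨Sum.inl (σ i), by
      have := e₀.extendSubtype_mem i h
      simpa [T, B] using this⟩
  have hψ : Function.Injective ψ := fun i j hij => by
    by_cases hi : i ∈ s <;> by_cases hj : j ∈ s <;> simp [ψ, hi, hj] at hij
    · exact hij
    · exact hij
  have hrow : ∀ i, (fun j => residue O (lin (θ₀ (X i)) j)) = v (ψ i) := fun i => by
    ext j
    by_cases hi : i ∈ s
    · simp only [hθX, y, if_pos hi, ψ, dif_pos hi, v, Sum.elim_inr, lin, coeff_X, Pi.single_apply,
        Finsupp.single_eq_single_iff]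
      by_cases hij : j = i <;> simp [hij]
    · simp [hθX, y, hi, ψ, v, lin, coeff_C]
  have hMu : IsUnit (M.map (residue O)) := by
    rw [← Matrix.linearIndependent_rows_iff_isUnit]
    have : (M.map (residue O)).row = fun i => v (ψ i) := funext fun i => by rw [← hrow]; rfl
    rw [this]
    exact hli₂.comp ψ hψ
  have hdet : IsUnit M.det := by
    have h := (Matrix.isUnit_iff_isUnit_det _).1 hMu
    rw [← RingHom.mapMatrix_apply, ← RingHom.map_det] at h
    exact (isUnit_map_iff (residue O) _).1 h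
  let θ := AlgEquiv.ofBijective θ₀ (CAlg6.bijective_of_isUnit_det θ₀ hθ0 hdet)
  have hout : ∀ i, i ∉ s → θ.symm (f (σ i)) = X i + C (constantCoeff (f (σ i))) := fun i hi => by
    rw [AlgEquiv.symm_apply_eq]
    show f (σ i) = θ₀ (X i + C (constantCoeff (f (σ i))))
    rw [map_add, hθX, show θ₀ (C (constantCoeff (f (σ i)))) = C (constantCoeff (f (σ i))) from θ₀.commutes _]
    simp [y, hi]
  refine ⟨θ, σ, s, hθ0, hout, fun i j hj => ?_⟩
  rw [← residue_eq_zero_iff]
  have hk : ∃ μ : Fin m → κ, (∀ j ∈ s, μ j = 0) ∧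
      Matrix.vecMul μ (M.map (residue O)) = v (Sum.inl (σ i)) := by
    have hmem : v (Sum.inl (σ i)) ∈ Submodule.span κ (v '' b₁) := hspan₁ ⟨_, ⟨σ i, rfl⟩, rfl⟩
    generalize v (Sum.inl (σ i)) = w at hmem ⊢
    induction hmem using Submodule.span_induction with
    | mem x hx =>
      obtain ⟨z, hz, rfl⟩ := hx
      obtain ⟨k, rfl⟩ := hb₁ hz
      have hk : k ∈ T := by simpa [T, B] using hb₁₂ hz
      let t := e₀.symm ⟨k, hk⟩
      have ht : σ t.1 = k := by
        show e₀.extendSubtype t.1 = k
        rw [e₀.extendSubtype_apply_of_mem t.1 t.2]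
        simp [t]
      refine ⟨Pi.single t.1 1, fun j hj => Pi.single_eq_of_ne (by rintro rfl; exact t.2 hj) _, ?_⟩
      rw [Matrix.single_one_vecMul]
      refine (funext fun l => rfl : (M.map (residue O)) t.1 = fun l => residue O (lin (θ₀ (X t.1)) l)).trans ?_
      rw [hrow]
      simp [ψ, t.2, ht]
    | zero => exact ⟨0, fun _ _ => rfl, Matrix.zero_vecMul _⟩
    | add x y _ _ hx hy =>
      obtain ⟨μ, hμ, ex⟩ := hx
      obtain ⟨ν, hν, ey⟩ := hy
      exact ⟨μ + ν, fun j hj => by simp [hμ j hj, hν j hj], by rw [Matrix.add_vecMul, ex, ey]⟩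
    | smul c x _ hx =>
      obtain ⟨μ, hμ, ex⟩ := hx
      exact ⟨c • μ, fun j hj => by simp [hμ j hj], by rw [Matrix.smul_vecMul, ex]⟩
  obtain ⟨μ, hμ, hμv⟩ := hk
  have hmain : Matrix.vecMul (fun l => residue O (lin (θ.symm (f (σ i))) l)) (M.map (residue O)) =
      v (Sum.inl (σ i)) := by
    funext l
    have h := lin_algHom θ₀ hθ0 (θ.symm (f (σ i))) l
    rw [show θ₀ (θ.symm (f (σ i))) = f (σ i) from θ.apply_symm_apply _] at h
    simp only [v, Sum.elim_inl, h, map_sum, map_mul]
    rfl
  have hinj : (fun l => residue O (lin (θ.symm (f (σ i))) l)) = μ :=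
    (Matrix.vecMul_injective_iff_isUnit.2 hMu) (hmain.trans hμv.symm)
  exact (congrFun hinj j).trans (hμ j hj)

end Groth.Agent.Font54
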