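import Groth.Agent.Font54.Omega

/-!
Unique lifting along divided power ideals for algebras with free differentials.
-/

set_option autoImplicit false

universe u v w

open MvPowerSeries IsLocalRing

noncomputable section

namespace Groth.Agent.Font54

variable {O : Type u} [CommRing O] [IsDomain O] [IsLocalRing O] [IsNoetherianRing O]
  [IsAdicComplete (maximalIdeal O) O]
  {m : ℕ} {A : Type v} [CommRing A] [Algebra O A] [Module.Finite O A] [Module.Flat O A]

theorem lifts_of_kaehler_free (f : Fin m → MvPowerSeries (Fin m) O)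
    (e : (MvPowerSeries (Fin m) O ⧸ Ideal.span (Set.range f)) ≃ₐ[O] A) (a : O) (ha : a ≠ 0) (r : ℕ)
    (hΩ : Nonempty (KaehlerDifferential O A ≃ₗ[A] (Fin r → A ⧸ Ideal.span {algebraMap O A a})))
    {S : Type w} [CommRing S] [Algebra O S] [Module.Finite O S] [Module.Flat O S] {I : Ideal S}
    (hI : DividedPowers I) (htn : W4c1noabschz1.IsDPTopNilpotent hI) (hIn : I ≤ nS O S) :
    Function.Injective (fun χ : A →ₐ[O] S => (Ideal.Quotient.mkₐ O I).comp χ) ∧
      Set.range (fun χ : A →ₐ[O] S => (Ideal.Quotient.mkₐ O I).comp χ) =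
        Set.range (fun ψ : A →ₐ[O] (S ⧸ Ideal.span {algebraMap O S a} * I) =>
          (Ideal.Quotient.factorₐ O (Ideal.mul_le_right (I := Ideal.span {algebraMap O S a}) (J := I))).comp ψ) := by
  rcases subsingleton_or_nontrivial A with hA | hA
  · refine ⟨fun χ χ' _ => AlgHom.ext fun x => by rw [Subsingleton.elim x 0, map_zero, map_zero],
      Set.Subset.antisymm ?_ ?_⟩
    · rintro _ ⟨χ, rfl⟩
      exact ⟨(Ideal.Quotient.mkₐ O _).comp χ, AlgHom.ext fun _ => rfl⟩
    · rintro _ ⟨ψ, rfl⟩
      have h1 : (Ideal.Quotient.mk (Ideal.span {algebraMap O S a} * I)) 1 = 0 := by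
        rw [map_one, ← map_one ψ, Subsingleton.elim (1 : A) 0, map_zero]
      have h2 : (1 : S) ∈ nS O S := hIn (Ideal.mul_le_right (Ideal.Quotient.eq_zero_iff_mem.1 h1))
      obtain ⟨k, hk⟩ := h2
      rw [one_pow] at hk
      have hS : ∀ x : S, x = 0 := fun x => eq_zero_of_forall_mem (O := O) fun M => by
        rw [(Ideal.eq_top_iff_one _).2 hk, Ideal.top_pow]; trivial
      let χ : A →ₐ[O] S :=
        { toFun := fun _ => 0
          map_one' := (hS 1).symm
          map_mul' := fun _ _ => (mul_zero 0).symm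
          map_zero' := rfl
          map_add' := fun _ _ => (add_zero 0).symm
          commutes' := fun o => (hS _).symm }
      exact ⟨χ, AlgHom.ext fun x => by rw [Subsingleton.elim x 0, map_zero, map_zero]⟩
  let π : MvPowerSeries (Fin m) O →ₐ[O] A := e.toAlgHom.comp (Ideal.Quotient.mkₐ O _)
  have hπ : Function.Surjective π := e.surjective.comp Ideal.Quotient.mk_surjective
  have hker : RingHom.ker π = Ideal.span (Set.range f) := Ideal.ext fun g => by
    rw [RingHom.mem_ker, ← Ideal.Quotient.eq_zero_iff_mem]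
    exact map_eq_zero_iff e e.injective
  obtain ⟨θ, σ, s, hθ0, hout, hlin⟩ := exists_adapted f
  let π' := π.comp θ.toAlgHom
  have hπ' : Function.Surjective π' := hπ.comp θ.surjective
  let f' := fun i => θ.symm (f (σ i))
  have hker' : RingHom.ker π' = Ideal.span (Set.range f') := by
    have h2 : Set.range f' = θ.symm.toRingEquiv.toRingHom '' Set.range f := by
      ext x
      exact ⟨fun ⟨i, hi⟩ => ⟨_, ⟨σ i, rfl⟩, hi⟩, fun ⟨_, ⟨i, rfl⟩, hi⟩ => ⟨σ.symm i, by simp [f']; exact hi⟩⟩
    rw [h2, ← Ideal.map_span, ← hker]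
    ext g
    rw [Ideal.mem_map_iff_of_surjective θ.symm.toRingEquiv.toRingHom θ.symm.surjective]
    constructor
    · intro h
      exact ⟨θ g, h, θ.symm_apply_apply g⟩
    · rintro ⟨y, hy, rfl⟩
      show π (θ (θ.symm y)) = 0
      rw [θ.apply_symm_apply]
      exact hy
  obtain ⟨N⟩ := exists_normSys π' hπ' ha hker' s (fun i => constantCoeff (f (σ i))) hout hlin r hΩ
  refine N.lifts hI htn hIn π' hπ' hker' (fun i => mem_nS_of_not_isUnit π' hπ' (not_isUnit_X π' hπ' i)) fun x hx => ?_
  exact (Module.Flat.isTorsionFree (R := O) (M := S)).isSMulRegular (IsRegular.of_ne_zero ha)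
    (show a • x = a • 0 by rw [smul_zero, Algebra.smul_def]; exact hx)

end Groth.Agent.Font54
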