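import Groth.Agent.Font54.Lift
import Groth.Agent.Font54.Linear
import Mathlib.RingTheory.Kaehler.Basic
import Mathlib.RingTheory.Flat.TorsionFree

/-!
The module of differentials of a finite quotient of a power series ring, and normalised systems.
-/

set_option autoImplicit false

universe u v

open MvPowerSeries IsLocalRing

noncomputable section

namespace Groth.Agent.Font54

variable {O : Type u} [CommRing O] [IsDomain O] [IsLocalRing O] [IsNoetherianRing O]
  [IsAdicComplete (maximalIdeal O) O]
  {m : ℕ} {f : Fin m → MvPowerSeries (Fin m) O}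
  {A : Type v} [CommRing A] [Algebra O A] [Module.Finite O A] [Nontrivial A]
  (π : MvPowerSeries (Fin m) O →ₐ[O] A) (hπ : Function.Surjective π)

include hπ

theorem isLocal_target : IsLocalRing A := IsLocalRing.of_surjective' π.toRingHom hπ

theorem isUnit_of_map {g : MvPowerSeries (Fin m) O} (h : IsUnit (π g)) : IsUnit g := by
  obtain ⟨w, hw⟩ := h.exists_right_inv
  obtain ⟨w, rfl⟩ := hπ w
  rcases IsLocalRing.isUnit_or_isUnit_one_sub_self (g * w) with hu | hu
  · exact isUnit_of_mul_isUnit_left hu
  · refine absurd (hu.map π) ?_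
    rw [map_sub, map_one, map_mul, hw, sub_self]
    exact not_isUnit_zero

theorem not_isUnit_X (i : Fin m) : ¬ IsUnit (π (X i)) := fun h => by
  have := (isUnit_iff_constantCoeff.1 (isUnit_of_map π hπ h))
  rw [constantCoeff_X] at this
  exact not_isUnit_zero this

theorem mem_nS_of_not_isUnit {x : A} (hx : ¬ IsUnit x) : x ∈ nS O A := by
  haveI := isLocal_target π hπ
  rw [nS, Ideal.radical_eq_sInf, Submodule.mem_sInf]
  rintro Q ⟨hle, hQ⟩
  haveI := hQ
  haveI : Algebra.IsIntegral O A := Algebra.IsIntegral.of_finite O A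
  have hcomap : Ideal.comap (algebraMap O A) Q = maximalIdeal O :=
    ((maximalIdeal.isMaximal O).eq_of_le (Ideal.comap_ne_top _ hQ.ne_top)
      (Ideal.map_le_iff_le_comap.1 hle)).symm
  haveI : Ideal.IsMaximal Q := Ideal.isMaximal_of_isIntegral_of_isMaximal_comap Q (by rw [hcomap]; infer_instance)
  rw [IsLocalRing.eq_maximalIdeal (I := Q) inferInstance]
  exact hx

theorem d_map (g : MvPowerSeries (Fin m) O) :
    KaehlerDifferential.D O A (π g) = ∑ j, π (pderiv O j g) • KaehlerDifferential.D O A (π (X j)) := by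
  haveI := isLocal_target π hπ
  haveI : IsNoetherianRing A := isNoetherian_of_finite O A
  have hJ : ∀ (N : ℕ) (x : A), x ∈ maximalIdeal A ^ (N + 1) →
      KaehlerDifferential.D O A x ∈ (maximalIdeal A ^ N • ⊤ : Submodule A (KaehlerDifferential O A)) := by
    intro N
    induction N with
    | zero => intro x _; simp
    | succ N ih =>
      intro x hx
      rw [pow_succ'] at hx
      induction hx using Submodule.mul_induction_on' with
      | mem_mul_mem a ha b hb =>
        rw [Derivation.leibniz]
        refine add_mem ?_ (Submodule.smul_mem_smul hb trivial)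
        have := Submodule.smul_mem_smul ha (ih b hb)
        rwa [← Submodule.smul_assoc, smul_eq_mul, ← pow_succ'] at this
      | add a _ b _ ha hb => rw [map_add]; exact add_mem ha hb
  have hpoly : ∀ p : MvPolynomial (Fin m) O, KaehlerDifferential.D O A (π (p : MvPowerSeries (Fin m) O)) =
      ∑ j, π (pderiv O j (p : MvPowerSeries (Fin m) O)) • KaehlerDifferential.D O A (π (X j)) := fun p => by
    induction p using MvPolynomial.induction_on with
    | C c =>
      rw [MvPolynomial.coe_C, show π (C c) = algebraMap O A c from π.commutes c, Derivation.map_algebraMap]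
      simp
    | add p q hp hq => simp only [MvPolynomial.coe_add, map_add, hp, hq, add_smul, Finset.sum_add_distrib]
    | mul_X p i hp =>
      rw [MvPolynomial.coe_mul, MvPolynomial.coe_X, map_mul, Derivation.leibniz, hp, Finset.smul_sum]
      have h1 : ∀ j, π (pderiv O j ((p : MvPowerSeries (Fin m) O) * X i)) • KaehlerDifferential.D O A (π (X j)) =
          π (p : MvPowerSeries (Fin m) O) • π (pderiv O j (X i : MvPowerSeries (Fin m) O)) • KaehlerDifferential.D O A (π (X j)) +
            π (X i) • π (pderiv O j (p : MvPowerSeries (Fin m) O)) • KaehlerDifferential.D O A (π (X j)) := fun j => by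
        rw [Derivation.leibniz, smul_eq_mul, smul_eq_mul, map_add, map_mul, map_mul, add_smul, mul_smul, mul_smul]
      simp only [h1, Finset.sum_add_distrib]
      congr 1
      rw [Finset.sum_eq_single i (fun j _ hj => by rw [pderiv_X_of_ne (Ne.symm hj), map_zero, zero_smul, smul_zero])
        (fun h => absurd (Finset.mem_univ i) h), pderiv_X_self, map_one, one_smul]
  refine (IsHausdorff.eq_iff_smodEq (I := maximalIdeal A)).2 fun N => ?_
  rw [SModEq.sub_mem]
  have ht := sub_truncTotal_mem g (N + 1)
  set p : MvPolynomial (Fin m) O := truncTotal (N + 1) g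
  have hX : ∀ i, π (X i) ∈ maximalIdeal A := fun i => not_isUnit_X π hπ i
  have h1 : KaehlerDifferential.D O A (π g) = KaehlerDifferential.D O A (π (g - p)) +
      KaehlerDifferential.D O A (π (p : MvPowerSeries (Fin m) O)) := by
    rw [← map_add, ← map_add, sub_add_cancel]
  have h2 : ∑ j, π (pderiv O j g) • KaehlerDifferential.D O A (π (X j)) =
      ∑ j, π (pderiv O j (g - p)) • KaehlerDifferential.D O A (π (X j)) +
      ∑ j, π (pderiv O j (p : MvPowerSeries (Fin m) O)) • KaehlerDifferential.D O A (π (X j)) := by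
    rw [← Finset.sum_add_distrib]
    refine Finset.sum_congr rfl fun j _ => ?_
    rw [← add_smul, ← map_add, ← map_add, sub_add_cancel]
  rw [h1, h2, hpoly p, add_sub_add_right_eq_sub]
  exact sub_mem (hJ N _ (map_xIdeal_pow π hX ht)) (Submodule.sum_mem _ fun j _ =>
    Submodule.smul_mem_smul (map_xIdeal_pow π hX (pderiv_xIdeal_pow j N ht)) trivial)

/-- The cokernel of the transposed Jacobian receives the universal derivation. -/
theorem exists_cokerMap (hker : RingHom.ker π = Ideal.span (Set.range f)) :
    ∃ Φ : KaehlerDifferential O A →ₗ[A]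
        (Fin m → A) ⧸ Submodule.span A (Set.range fun i j => π (pderiv O j (f i))),
      Function.Surjective Φ ∧
        ∀ j, Φ (KaehlerDifferential.D O A (π (X j))) = Submodule.Quotient.mk (Pi.single j 1) := by
  classical
  set N := Submodule.span A (Set.range fun i j => π (pderiv O j (f i)))
  let D₀ : MvPowerSeries (Fin m) O → (Fin m → A) ⧸ N := fun g => Submodule.Quotient.mk fun j => π (pderiv O j g)
  have hadd : ∀ g h, D₀ (g + h) = D₀ g + D₀ h := fun g h => by
    simp only [D₀, map_add, ← Submodule.Quotient.mk_add]; rfl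
  have hmul : ∀ g h, D₀ (g * h) = π g • D₀ h + π h • D₀ g := fun g h => by
    simp only [D₀, ← Submodule.Quotient.mk_smul, ← Submodule.Quotient.mk_add]
    congr 1; ext j
    simp [Derivation.leibniz]
  have hker' : ∀ g, π g = 0 → D₀ g = 0 := fun g hg => by
    have : g ∈ Ideal.span (Set.range f) := hker ▸ RingHom.mem_ker.2 hg
    induction this using Submodule.span_induction with
    | mem x hx =>
      obtain ⟨i, rfl⟩ := hx
      exact (Submodule.Quotient.mk_eq_zero _).2 (Submodule.subset_span ⟨i, rfl⟩)
    | zero => simp only [D₀, map_zero]; rfl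
    | add x y hx hy ihx ihy =>
      rw [hadd, ihx (RingHom.mem_ker.1 (hker ▸ hx)), ihy (RingHom.mem_ker.1 (hker ▸ hy)), add_zero]
    | smul r x hx ih =>
      have hx0 : π x = 0 := RingHom.mem_ker.1 (hker ▸ hx)
      rw [smul_eq_mul, hmul, ih hx0, hx0, smul_zero, zero_smul, add_zero]
  have key : ∀ g g', π g = π g' → D₀ g = D₀ g' := fun g g' h => by
    have h1 := hker' (g - g') (by rw [map_sub, h, sub_self])
    have h2 := hadd (g - g') g'
    rwa [sub_add_cancel, h1, zero_add] at h2
  choose sec hsec using hπ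
  let L : A →ₗ[O] (Fin m → A) ⧸ N :=
    { toFun := fun x => D₀ (sec x)
      map_add' := fun x y => (key _ _ (by rw [map_add, hsec, hsec, hsec])).trans (hadd _ _)
      map_smul' := fun o x => by
        refine (key _ (o • sec x) (by rw [map_smul, hsec, hsec])).trans ?_
        show D₀ (o • sec x) = o • D₀ (sec x)
        simp only [D₀, ← Submodule.Quotient.mk_smul]
        congr 1; ext j
        simp [map_smul] }
  let δ : Derivation O A ((Fin m → A) ⧸ N) := Derivation.mk' L fun x y => by
    show D₀ (sec (x * y)) = x • D₀ (sec y) + y • D₀ (sec x)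
    rw [key _ (sec x * sec y) (by rw [map_mul, hsec, hsec, hsec]), hmul, hsec, hsec]
  have hgen : ∀ j, δ.liftKaehlerDifferential (KaehlerDifferential.D O A (π (X j))) =
      Submodule.Quotient.mk (Pi.single j 1) := fun j => by
    rw [Derivation.liftKaehlerDifferential_comp_D]
    show D₀ (sec (π (X j))) = _
    rw [key _ (X j) (hsec _)]
    show Submodule.Quotient.mk _ = _
    congr 1; ext l
    by_cases h : l = j
    · subst h; simp
    · simp [pderiv_X_of_ne (Ne.symm h), h]
  refine ⟨δ.liftKaehlerDifferential, fun q => ?_, hgen⟩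
  obtain ⟨w, rfl⟩ := Submodule.Quotient.mk_surjective _ q
  refine ⟨∑ j, w j • KaehlerDifferential.D O A (π (X j)), ?_⟩
  simp only [map_sum, map_smul, hgen, ← Submodule.Quotient.mk_smul]
  show ∑ x, N.mkQ (w x • Pi.single x 1) = N.mkQ w
  rw [← map_sum]
  congr 1
  ext l
  simp [Finset.sum_apply, Pi.single_apply]

variable [Module.Flat O A] {a : O} (ha : a ≠ 0)

include ha in
/-- A system with adapted coordinates and free differentials is normalised. -/
theorem exists_normSys (hker : RingHom.ker π = Ideal.span (Set.range f)) (s : Finset (Fin m)) (c : Fin m → O)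
    (hout : ∀ i, i ∉ s → f i = X i + C (c i)) (hlin : ∀ i, ∀ j ∈ s, lin (f i) j ∈ maximalIdeal O) (r : ℕ)
    (hΩ : Nonempty (KaehlerDifferential O A ≃ₗ[A] (Fin r → A ⧸ Ideal.span {algebraMap O A a}))) :
    Nonempty (NormSys a f) := by
  classical
  obtain ⟨e⟩ := hΩ
  haveI := isLocal_target π hπ
  haveI : IsNoetherianRing A := isNoetherian_of_finite O A
  set α := algebraMap O A a with hα
  let κ := ResidueField A
  have hf0 : ∀ i, π (f i) = 0 := fun i => RingHom.mem_ker.1 (hker ▸ Ideal.subset_span ⟨i, rfl⟩)
  let N := Submodule.span A (Set.range fun i j => π (pderiv O j (f i)))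
  obtain ⟨Φ, hΦs, hΦ⟩ : ∃ Φ : KaehlerDifferential O A →ₗ[A] (Fin m → A) ⧸ N, Function.Surjective Φ ∧
      ∀ j, Φ (KaehlerDifferential.D O A (π (X j))) = Submodule.Quotient.mk (Pi.single j 1) :=
    exists_cokerMap π hπ hker
  let dx : Fin m → KaehlerDifferential O A := fun j => KaehlerDifferential.D O A (π (X j))
  have hdx : ∀ t, t ∉ s → dx t = 0 := fun t ht => by
    have h := hf0 t
    rw [hout t ht, map_add, show π (C (c t)) = algebraMap O A (c t) from π.commutes _] at h
    show KaehlerDifferential.D O A (π (X t)) = 0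
    rw [eq_neg_of_add_eq_zero_left h, map_neg, Derivation.map_algebraMap, neg_zero]
  have hrowzero : ∀ i, i ∉ s → ∀ j ∈ s, pderiv O j (f i) = 0 := fun i hi j hj => by
    rw [hout i hi, map_add, pderiv_C, add_zero, pderiv_X_of_ne]
    rintro rfl; exact hi hj
  let res : (Fin m → A) →ₗ[A] ({x // x ∈ s} → κ) :=
    { toFun := fun w j => residue A (w j)
      map_add' := fun w w' => funext fun j => map_add _ _ _
      map_smul' := fun q w => funext fun j => map_mul _ _ _ }
  have hres : N ≤ LinearMap.ker res := Submodule.span_le.2 (by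
    rintro _ ⟨i, rfl⟩
    refine funext fun j => (residue_eq_zero_iff _).2 fun hu => ?_
    have h1 := isUnit_iff_constantCoeff.1 (isUnit_of_map π hπ hu)
    rw [constantCoeff_pderiv] at h1
    exact (hlin i j.1 j.2) h1)
  let Ψ : KaehlerDifferential O A →ₗ[A] ({x // x ∈ s} → κ) := (N.liftQ res hres).comp Φ
  have hΨ : Function.Surjective Ψ := by
    show Function.Surjective (⇑(N.liftQ res hres) ∘ ⇑Φ)
    refine Function.Surjective.comp ?_ hΦs
    intro w
    choose w' hw' using fun j => Ideal.Quotient.mk_surjective (I := maximalIdeal A) (w j)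
    refine ⟨Submodule.Quotient.mk fun l => if h : l ∈ s then w' ⟨l, h⟩ else 0, funext fun j => ?_⟩
    show residue A (if h : j.1 ∈ s then w' ⟨j.1, h⟩ else 0) = w j
    rw [dif_pos j.2]
    exact hw' j
  let q₀ : (Fin r → A) →ₗ[A] KaehlerDifferential O A :=
    e.symm.toLinearMap.comp ((Submodule.mkQ (Ideal.span {α})).compLeft (Fin r))
  have hq₀ : Function.Surjective q₀ := e.symm.surjective.comp fun w => by
    choose w' hw' using fun j => Ideal.Quotient.mk_surjective (w j)
    exact ⟨w', funext hw'⟩
  have hsr : s.card ≤ r := by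
    have hspan : Submodule.span κ (Set.range fun l : Fin r => Ψ (q₀ (Pi.single l 1))) = ⊤ := by
      refine top_le_iff.1 fun w _ => ?_
      obtain ⟨x, rfl⟩ := hΨ w
      obtain ⟨x, rfl⟩ := hq₀ x
      rw [pi_eq_sum_univ' x, map_sum, map_sum]
      refine Submodule.sum_mem _ fun l _ => ?_
      rw [map_smul, map_smul, ← IsScalarTower.algebraMap_smul κ (x l)]
      exact Submodule.smul_mem _ _ (Submodule.subset_span ⟨l, rfl⟩)
    have h1 := finrank_range_le_card (R := κ) fun l : Fin r => Ψ (q₀ (Pi.single l 1))
    rw [Set.finrank, hspan, finrank_top, Module.finrank_fintype_fun_eq_card, Fintype.card_coe,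
      Fintype.card_fin] at h1
    exact h1
  -- the differentials of the coordinates in `s` form a basis modulo `a`
  let Ā := A ⧸ Ideal.span {α}
  let emb : Fin s.card ↪ Fin r := Fin.castLEEmb hsr
  let pr : (Fin r → Ā) →ₗ[A] (Fin s.card → Ā) :=
    { toFun := fun w l => w (emb l), map_add' := fun _ _ => rfl, map_smul' := fun _ _ => rfl }
  let idx : Fin s.card ≃ s := s.equivFin.symm
  have hαdx : ∀ j, α • dx j = 0 := fun j => e.injective (by
    rw [map_smul, map_zero]
    ext l
    obtain ⟨y, hy⟩ := Ideal.Quotient.mk_surjective (e (dx j) l)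
    show α • e (dx j) l = 0
    rw [← hy, ← Ideal.Quotient.mk_eq_mk, ← Submodule.Quotient.mk_smul, Submodule.Quotient.mk_eq_zero, smul_eq_mul]
    exact Ideal.mul_mem_right _ _ (Ideal.mem_span_singleton_self _))
  have hgen : ∀ x : KaehlerDifferential O A, ∃ w : Fin m → A, ∑ j, w j • dx j = x := by
    intro x
    have hx : x ∈ Submodule.span A (Set.range (KaehlerDifferential.D O A)) := by
      rw [KaehlerDifferential.span_range_derivation]; trivial
    have : Submodule.span A (Set.range (KaehlerDifferential.D O A)) ≤ Submodule.span A (Set.range dx) :=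
      Submodule.span_le.2 (by
        rintro _ ⟨y, rfl⟩
        obtain ⟨g, rfl⟩ := hπ y
        rw [d_map π hπ g]
        exact Submodule.sum_mem _ fun j _ => Submodule.smul_mem _ _ (Submodule.subset_span ⟨j, rfl⟩))
    exact Submodule.mem_span_range_iff_exists_fun A |>.1 (this hx)
  let φ₁ : (Fin s.card → A) →ₗ[A] (Fin s.card → Ā) :=
    pr.comp (e.toLinearMap.comp (Fintype.linearCombination A fun l => dx (idx l)))
  have hφ₁ : Ideal.span {α} • (⊤ : Submodule A (Fin s.card → A)) ≤ LinearMap.ker φ₁ := Submodule.smul_le.2 fun y hy w _ => by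
    obtain ⟨z, rfl⟩ := Ideal.mem_span_singleton'.1 hy
    rw [LinearMap.mem_ker, map_smul, mul_smul]
    have : α • φ₁ w = 0 := by
      rw [← map_smul φ₁]
      simp only [φ₁, LinearMap.comp_apply, Fintype.linearCombination_apply, LinearEquiv.coe_coe]
      rw [Finset.sum_eq_zero fun l _ => by rw [Pi.smul_apply, smul_eq_mul, mul_comm, mul_smul, hαdx, smul_zero]]
      simp
    rw [this, smul_zero]
  let mk : (Fin s.card → A) →ₗ[A] (Fin s.card → Ā) := (Submodule.mkQ (Ideal.span {α})).compLeft (Fin s.card)
  have hmk : Function.Surjective mk := fun w => by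
    choose w' hw' using fun j => Ideal.Quotient.mk_surjective (w j)
    exact ⟨w', funext hw'⟩
  have hle : LinearMap.ker mk ≤ LinearMap.ker φ₁ := fun w hw => hφ₁ (by
    have h : ∀ l, w l ∈ Ideal.span {α} := fun l => (Submodule.Quotient.mk_eq_zero _).1 (congrFun (LinearMap.mem_ker.1 hw) l)
    rw [pi_eq_sum_univ' w]
    exact Submodule.sum_mem _ fun l _ => Submodule.smul_mem_smul (h l) trivial)
  let φ₂ : (Fin s.card → Ā) →ₗ[A] (Fin s.card → Ā) :=
    ((LinearMap.ker mk).liftQ φ₁ hle).comp (mk.quotKerEquivOfSurjective hmk).symm.toLinearMap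
  have hφ₂ : ∀ w, φ₂ (mk w) = φ₁ w := fun w => by
    show (LinearMap.ker mk).liftQ φ₁ hle ((mk.quotKerEquivOfSurjective hmk).symm (mk w)) = _
    rw [show (mk.quotKerEquivOfSurjective hmk).symm (mk w) = Submodule.Quotient.mk w from
      (LinearEquiv.symm_apply_eq _).2 rfl]
    rfl
  have hφ₂s : Function.Surjective φ₂ := fun y => by
    let y' : Fin r → Ā := fun l => if h : ∃ k, emb k = l then y h.choose else 0
    obtain ⟨w, hw⟩ := hgen (e.symm y')
    refine ⟨mk fun l => w (idx l), (hφ₂ _).trans ?_⟩
    have : (Fintype.linearCombination A fun l => dx (idx l)) (fun l => w (idx l)) = e.symm y' := by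
      rw [Fintype.linearCombination_apply, ← hw, ← Finset.sum_subset (Finset.subset_univ s)
        (fun j _ hj => by rw [hdx j hj, smul_zero])]
      exact ((idx.sum_comp fun j => w j.1 • dx j.1).trans (Finset.sum_coe_sort s fun j => w j • dx j))
    simp only [φ₁, LinearMap.comp_apply, LinearEquiv.coe_coe, this, LinearEquiv.apply_symm_apply]
    funext k
    have h : ∃ k', emb k' = emb k := ⟨k, rfl⟩
    show y' (emb k) = y k
    simp only [y', dif_pos h]
    rw [emb.injective h.choose_spec]
  have hφ₂i : Function.Injective φ₂ := OrzechProperty.injective_of_surjective_endomorphism φ₂ hφ₂s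
  -- the Jacobian is divisible by `a`
  have hdvd : ∀ i, ∀ j ∈ s, π (pderiv O j (f i)) ∈ Ideal.span {α} := by
    intro i j hj
    have h0 : φ₂ (mk fun l => π (pderiv O (idx l).1 (f i))) = 0 := by
      rw [hφ₂]
      have : (Fintype.linearCombination A fun l => dx (idx l)) (fun l => π (pderiv O (idx l).1 (f i))) = 0 := by
        rw [Fintype.linearCombination_apply, idx.sum_comp fun k => π (pderiv O k.1 (f i)) • dx k.1,
          Finset.sum_coe_sort s fun k => π (pderiv O k (f i)) • dx k,
          Finset.sum_subset (Finset.subset_univ s) (fun k _ hk => by rw [hdx k hk, smul_zero]),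
          ← d_map π hπ, hf0, map_zero]
      simp only [φ₁, LinearMap.comp_apply, this, map_zero]
    have h1 := (map_eq_zero_iff φ₂ hφ₂i).1 h0
    have h2 := (Submodule.Quotient.mk_eq_zero _).1 (congrFun h1 (idx.symm ⟨j, hj⟩))
    simpa using h2
  have hG : ∀ i j, ∃ g, (i ∈ s ∧ j ∈ s → π (pderiv O j (f i)) = α * π g) ∧
      (¬(i ∈ s ∧ j ∈ s) → g = if i = j then 1 else 0) := fun i j => by
    by_cases h : i ∈ s ∧ j ∈ s
    · obtain ⟨y, hy⟩ := Ideal.mem_span_singleton'.1 (hdvd i j h.2)
      obtain ⟨g, rfl⟩ := hπ y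
      exact ⟨g, fun _ => by rw [← hy, mul_comm], fun h' => absurd h h'⟩
    · exact ⟨_, fun h' => absurd h' h, fun _ => rfl⟩
  choose G hG1 hG2 using hG
  have hαreg : ∀ x : A, α * x = 0 → x = 0 := fun x hx => by
    have h1 : (a • LinearMap.id (R := O) (M := A)) x = 0 := by
      simpa [Algebra.smul_def] using hx
    exact (Module.Flat.isTorsionFree (R := O) (M := A)).isSMulRegular (IsRegular.of_ne_zero ha)
      (show a • x = a • 0 by rw [smul_zero]; simpa [Algebra.smul_def] using hx)
  -- a left inverse
  have hk : ∀ j ∈ s, ∃ k : Fin m → A, ∀ l ∈ s, ∑ i ∈ s, k i * π (G i l) = if j = l then 1 else 0 := by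
    intro j hj
    have h0 : (Submodule.Quotient.mk (α • (Pi.single j 1 : Fin m → A)) : (Fin m → A) ⧸ N) = 0 := by
      rw [Submodule.Quotient.mk_smul, ← hΦ j, ← map_smul]
      rw [show α • KaehlerDifferential.D O A (π (X j)) = 0 from hαdx j, map_zero]
    obtain ⟨k, hk⟩ := Submodule.mem_span_range_iff_exists_fun A |>.1 ((Submodule.Quotient.mk_eq_zero _).1 h0)
    refine ⟨k, fun l hl => sub_eq_zero.1 (hαreg _ ?_)⟩
    have h1 := congrFun hk l
    simp only [Finset.sum_apply, Pi.smul_apply, smul_eq_mul, Pi.single_apply] at h1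
    rw [← Finset.sum_subset (Finset.subset_univ s) (fun i _ hi => by rw [hrowzero i hi l hl, map_zero, mul_zero]),
      Finset.sum_congr rfl (fun i hi => by rw [hG1 i l ⟨hi, hl⟩, mul_left_comm]), ← Finset.mul_sum] at h1
    rw [mul_sub, h1, sub_eq_zero]
    by_cases h : j = l <;> simp [h, eq_comm]
  choose k hk using hk
  let K : Matrix (Fin m) (Fin m) A := Matrix.of fun j i =>
    if hj : j ∈ s then (if i ∈ s then k j hj i else 0) else if i = j then 1 else 0
  let Gπ : Matrix (Fin m) (Fin m) A := (Matrix.of G).map π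
  have hKG : K * Gπ = 1 := by
    ext j l
    rw [Matrix.mul_apply, Matrix.one_apply]
    by_cases hj : j ∈ s
    · by_cases hl : l ∈ s
      · rw [← hk j hj l hl]
        rw [← Finset.sum_subset (Finset.subset_univ s) (fun i _ hi => by simp [K, hj, hi])]
        exact Finset.sum_congr rfl fun i hi => by simp [K, Gπ, hj, hi]
      · rw [if_neg (by rintro rfl; exact hl hj)]
        refine Finset.sum_eq_zero fun i _ => ?_
        by_cases hi : i ∈ s
        · simp [K, Gπ, hj, hi, hG2 i l (fun h => hl h.2), show i ≠ l from fun h => hl (h ▸ hi)]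
        · simp [K, hj, hi]
    · rw [Finset.sum_eq_single j (fun i _ hi => by simp [K, hj, hi]) (fun h => absurd (Finset.mem_univ j) h)]
      simp [K, Gπ, hj, hG2 j l (fun h => hj h.1)]
  refine ⟨⟨s, c, Matrix.of G, hout, fun i hi j hj => ?_, fun i j h => hG2 i j h, isUnit_of_map π hπ ?_⟩⟩
  · rw [← hker, RingHom.mem_ker, map_sub, map_mul, show π (C a) = α from π.commutes a]
    exact sub_eq_zero.2 (hG1 i j ⟨hi, hj⟩)
  · rw [AlgHom.map_det]
    exact IsUnit.of_mul_eq_one K.det (by rw [mul_comm, ← Matrix.det_mul]; show (K * Gπ).det = 1; rw [hKG, Matrix.det_one])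

end Groth.Agent.Font54
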