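import Groth.Agent.Font54.PSEval
import Groth.Agent.Font54.DPFil

/-!
Taylor's formula with divided powers.
-/

set_option autoImplicit false

universe u v

open MvPowerSeries IsLocalRing W4c1noabschz1

namespace Groth.Agent.Font54

variable {O : Type u} [CommRing O] {S : Type v} [CommRing S] [Algebra O S] {m : ℕ}

theorem poly_taylor {I : Ideal S} (hI : DividedPowers I) (u : Fin m → S) (j : Fin m) {t : S} (ht : t ∈ I)
    (p : MvPolynomial (Fin m) O) :
    ∃ L, ∀ L', L ≤ L' → MvPolynomial.aeval (fun i => u i + if i = j then t else 0) p =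
      ∑ l ∈ Finset.range L', MvPolynomial.aeval u ((MvPolynomial.pderiv j)^[l] p) * hI.dpow l t := by
  classical
  let w : Fin m → Polynomial S := fun i => Polynomial.C (u i) + if i = j then Polynomial.X else 0
  have hd : ∀ q : MvPolynomial (Fin m) O, Polynomial.derivative (MvPolynomial.aeval w q) =
      MvPolynomial.aeval w (MvPolynomial.pderiv j q) := fun q => by
    induction q using MvPolynomial.induction_on with
    | C c => simp [Polynomial.derivative_C, IsScalarTower.algebraMap_apply O S (Polynomial S)]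
    | add a b ha hb => simp [ha, hb]
    | mul_X q i hq =>
      by_cases h : i = j
      · subst h
        simp [hq, w, MvPolynomial.pderiv_mul]
        ring
      · simp [hq, w, h, MvPolynomial.pderiv_mul, MvPolynomial.pderiv_X_of_ne (Ne.symm (Ne.symm h))]
        ring
  have hit : ∀ l, Polynomial.derivative^[l] (MvPolynomial.aeval w p) =
      MvPolynomial.aeval w ((MvPolynomial.pderiv j)^[l] p) := fun l => by
    induction l with
    | zero => rfl
    | succ l ih => rw [Function.iterate_succ_apply', ih, hd, Function.iterate_succ_apply']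
  have hev : ∀ (z : S) (q : MvPolynomial (Fin m) O), (MvPolynomial.aeval w q).eval z =
      MvPolynomial.aeval (fun i => u i + if i = j then z else 0) q := fun z q => by
    induction q using MvPolynomial.induction_on with
    | C c => simp [IsScalarTower.algebraMap_apply O S (Polynomial S)]
    | add a b ha hb => simp [ha, hb]
    | mul_X q i hq =>
      by_cases h : i = j <;> simp [hq, w, h]
  refine ⟨(MvPolynomial.aeval w p).natDegree + 1, fun L hL => ?_⟩
  rw [← hev t p, Polynomial.eval_eq_sum_range' (n := L) (by omega)]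
  refine Finset.sum_congr rfl fun l _ => ?_
  have h0 := congrArg (fun q => Polynomial.coeff q 0) (hit l)
  simp only [Polynomial.coeff_iterate_derivative, zero_add, Nat.descFactorial_self] at h0
  rw [Polynomial.coeff_zero_eq_eval_zero, hev] at h0
  simp only [ite_self, add_zero] at h0
  rw [← h0, nsmul_eq_mul, ← hI.factorial_mul_dpow_eq_pow (n := l) ht]
  ring

theorem pderiv_iterate_coe (j : Fin m) (l : ℕ) (p : MvPolynomial (Fin m) O) :
    (pderiv O j)^[l] (p : MvPowerSeries (Fin m) O) =
      (((MvPolynomial.pderiv j)^[l] p : MvPolynomial (Fin m) O) : MvPowerSeries (Fin m) O) := by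
  induction l with
  | zero => rfl
  | succ l ih => rw [Function.iterate_succ_apply', ih, pderiv_coe, Function.iterate_succ_apply']

variable [IsLocalRing O] [IsNoetherianRing O] [IsAdicComplete (maximalIdeal O) O] [Module.Finite O S]

/-- Taylor's formula in one variable, to first order. -/
theorem taylor_one {I : Ideal S} (hI : DividedPowers I) (htn : IsDPTopNilpotent hI) (hIn : I ≤ nS O S)
    {a : S} {φ φ' : MvPowerSeries (Fin m) O →ₐ[O] S} (hφ : ∀ i, φ (X i) ∈ nS O S) (j : Fin m)
    {n : ℕ} (hn : 1 ≤ n) {t : S} (ht : t ∈ dpPow hI n)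
    (he : ∀ i, φ' (X i) = φ (X i) + if i = j then t else 0) (g : MvPowerSeries (Fin m) O)
    (hg : ∀ l, 2 ≤ l → φ ((pderiv O j)^[l] g) ∈ Ideal.span {a}) :
    φ' g - φ g - φ (pderiv O j g) * t ∈ Ideal.span {a} * dpPow hI (2 * n) := by
  classical
  have htI : t ∈ I := dpPow_le hI hn ht
  have hφ' : ∀ i, φ' (X i) ∈ nS O S := fun i => by
    rw [he]; split_ifs
    · exact add_mem (hφ i) (hIn htI)
    · rw [add_zero]; exact hφ i
  set L := Ideal.span {a} * dpPow hI (2 * n)
  refine mem_of_forall_mem_sup (O := O) L fun M => ?_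
  obtain ⟨c₀, hc₀⟩ := exists_dpPow_le (O := O) hI htn M
  obtain ⟨e, hne⟩ := exists_nS_pow_le O S
  let c := c₀ + 2
  let N := e * M + c
  let p : MvPolynomial (Fin m) O := truncTotal N g
  have hh : g - (p : MvPowerSeries (Fin m) O) ∈ xIdeal O m ^ N := sub_truncTotal_mem g N
  have small : ∀ (ψ : MvPowerSeries (Fin m) O →ₐ[O] S), (∀ i, ψ (X i) ∈ nS O S) → ∀ l ≤ c,
      ψ ((pderiv O j)^[l] g) - ψ ((pderiv O j)^[l] (p : MvPowerSeries (Fin m) O)) ∈ L ⊔ mS O S ^ M := by
    intro ψ hψ l hl
    have h1 : g - (p : MvPowerSeries (Fin m) O) ∈ xIdeal O m ^ (e * M + l) :=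
      Ideal.pow_le_pow_right (by omega) hh
    have h2 := map_xIdeal_pow ψ hψ (pderiv_iterate_xIdeal_pow j l _ h1)
    rw [iterate_map_sub, map_sub, pow_mul] at h2
    exact Ideal.mem_sup_right (Ideal.pow_right_mono hne M h2)
  have hpoly : ∀ l, φ ((pderiv O j)^[l] (p : MvPowerSeries (Fin m) O)) =
      MvPolynomial.aeval (fun i => φ (X i)) ((MvPolynomial.pderiv j)^[l] p) := fun l => by
    rw [pderiv_iterate_coe, hom_poly]
  obtain ⟨L₀, hL₀⟩ := poly_taylor (O := O) hI (fun i => φ (X i)) j htI p
  have hexp : φ' (p : MvPowerSeries (Fin m) O) =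
      ∑ l ∈ Finset.range (L₀ + 2), φ ((pderiv O j)^[l] (p : MvPowerSeries (Fin m) O)) * hI.dpow l t := by
    rw [hom_poly, funext he, hL₀ (L₀ + 2) (by omega)]
    exact Finset.sum_congr rfl fun l _ => by rw [hpoly]
  have e0 : φ' g - φ g - φ (pderiv O j g) * t =
      (φ' g - φ' (p : MvPowerSeries (Fin m) O)) - (φ g - φ (p : MvPowerSeries (Fin m) O)) -
        (φ (pderiv O j g) - φ (pderiv O j (p : MvPowerSeries (Fin m) O))) * t +
        ∑ l ∈ Finset.range L₀, φ ((pderiv O j)^[l + 2] (p : MvPowerSeries (Fin m) O)) * hI.dpow (l + 2) t := by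
    rw [hexp, Finset.sum_range_succ', Finset.sum_range_succ', hI.dpow_zero htI, zero_add, hI.dpow_one htI]
    simp only [Function.iterate_zero_apply, Function.iterate_one, show ∀ l : ℕ, l + 1 + 1 = l + 2 from fun _ => rfl]
    ring
  rw [e0]
  refine add_mem (sub_mem (sub_mem (small φ' hφ' 0 (by omega)) (small φ hφ 0 (by omega)))
    (Ideal.mul_mem_right _ _ (small φ hφ 1 (by omega)))) (Ideal.sum_mem _ fun l _ => ?_)
  rcases le_or_gt (l + 2) c with hl | hl
  · rw [show φ ((pderiv O j)^[l + 2] (p : MvPowerSeries (Fin m) O)) * hI.dpow (l + 2) t =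
      φ ((pderiv O j)^[l + 2] g) * hI.dpow (l + 2) t -
      (φ ((pderiv O j)^[l + 2] g) - φ ((pderiv O j)^[l + 2] (p : MvPowerSeries (Fin m) O))) * hI.dpow (l + 2) t by ring]
    refine sub_mem (Ideal.mem_sup_left ?_) (Ideal.mul_mem_right _ _ (small φ hφ _ hl))
    exact Ideal.mul_mem_mul (hg _ (by omega)) (dpPow_antitone hI (Nat.mul_le_mul_right n (by omega))
      (dpow_mem_of_mem hI hn ht (l + 2)))
  · refine Ideal.mem_sup_right (Ideal.mul_mem_left _ _ (hc₀ (dpPow_antitone hI ?_ (dpow_mem_of_mem hI hn ht (l + 2)))))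
    calc c₀ ≤ l + 2 := by omega
      _ = (l + 2) * 1 := (mul_one _).symm
      _ ≤ (l + 2) * n := Nat.mul_le_mul_left _ hn

end Groth.Agent.Font54
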